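import Groth.Agent.CAlgH.KoszulEuler.Koszul
import Groth.Agent.EGA41Lib.HilbertSamuel
import Mathlib.Analysis.SpecialFunctions.Choose

/-!
# The Euler characteristic of the Koszul complex as a leading Hilbert-Samuel coefficient
-/

universe u

set_option autoImplicit false
set_option backward.isDefEq.respectTransparency false
set_option backward.isDefEq.respectTransparency.types false

open CategoryTheory CategoryTheory.Limits CochainComplex Filter Topology
open Groth.Agent.Misc15.Koszul Groth.Agent.CommAlg6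
open Groth.Agent.EGA41Lib (HS.EP HS.lenN)
open CohIII (koszulCx)

namespace Groth.Agent.CAlgH.KoszulEuler

variable {A : Type u} [CommRing A]

/-- Isomorphic modules have the same Euler characteristic. -/
theorem chi_congr_iso {M N : ModuleCat.{u} A} (e : M ≅ N) (l : List A) : chi M l = chi N l := by
  obtain ⟨t1⟩ := nonempty_tensor_iso M l
  obtain ⟨t2⟩ := nonempty_tensor_iso N l
  let te : DRing.tensorCx (_root_.Koszul.koszul A l) M ≅ DRing.tensorCx (_root_.Koszul.koszul A l) N :=
    (NatIso.mapHomologicalComplex ((MonoidalCategory.tensoringRight (ModuleCat.{u} A)).mapIso e) _).app _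
  exact chiFam_congr fun i => ⟨(nonempty_homology_equiv (koszulCx M l) i).some.symm.trans
    ((HomologicalComplex.homologyMapIso (t1.symm ≪≫ te ≪≫ t2) i).toLinearEquiv.trans
      (nonempty_homology_equiv (koszulCx N l) i).some)⟩

theorem subsingleton_KH_of_subsingleton (M : ModuleCat.{u} A) [Subsingleton M] (l : List A) (i : ℤ) :
    Subsingleton (KH M l i) := by
  have hX : Subsingleton ((koszulCx M l).X i) := subsingleton_of_forall_eq 0 fun x => by
    rw [← one_smul A x]
    exact smul_X_eq_zero M (fun m => Subsingleton.elim _ _) l i x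
  exact subsingleton_HR

/-- The filtration of the Koszul complex. -/
noncomputable def KF (J : Ideal A) (M : ModuleCat.{u} A) :
    ∀ (l : List A) (_n : ℤ) (i : ℤ), Submodule A ((koszulCx M l).X i)
  | [], n => fun i => J ^ (n + i).toNat • ⊤
  | a :: l, n => coneG a (KF J M l (n - 1)) (KF J M l n)

theorem KF_eq (J : Ideal A) (M : ModuleCat.{u} A) :
    ∀ (l : List A) (n i : ℤ), KF J M l n i = J ^ (n + i).toNat • ⊤
  | [], n, i => rfl
  | a :: l, n, i => by
    ext x
    show cfst _ (i + 1) rfl x ∈ KF J M l (n - 1) (i + 1) ∧ csnd _ x ∈ KF J M l n i ↔ _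
    rw [KF_eq J M l, KF_eq J M l, show n - 1 + (i + 1) = n + i by ring]
    constructor
    · rintro ⟨h1, h2⟩
      have h1' := Submodule.smul_top_le_comap_smul_top (J ^ (n + i).toNat)
        ((mappingCone.inl (a • 𝟙 (koszulCx M l))).v (i + 1) i (by omega)).hom h1
      have h2' := Submodule.smul_top_le_comap_smul_top (J ^ (n + i).toNat)
        ((mappingCone.inr (a • 𝟙 (koszulCx M l))).f i).hom h2
      have e : cmk (a • 𝟙 (koszulCx M l)) (i + 1) rfl (cfst _ (i + 1) rfl x) (csnd _ x) = x :=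
        cone_ext _ (i + 1) rfl (cfst_cmk _ _ rfl _ _) (csnd_cmk _ _ rfl _ _)
      rw [← e]
      exact Submodule.add_mem _ h1' h2'
    · intro h
      exact ⟨Submodule.smul_top_le_comap_smul_top (J ^ (n + i).toNat)
          ((mappingCone.fst (a • 𝟙 (koszulCx M l))).1.v i (i + 1) rfl).hom h,
        Submodule.smul_top_le_comap_smul_top (J ^ (n + i).toNat)
          ((mappingCone.snd (a • 𝟙 (koszulCx M l))).v i i (add_zero i)).hom h⟩

/-- Iterated backward differences. -/
def bdiff : ℕ → (ℤ → ℤ) → ℤ → ℤ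
  | 0, h => h
  | r + 1, h => fun n => bdiff r h n - bdiff r h (n - 1)

theorem bdiff_choose (h : ℤ → ℤ) (r : ℕ) (a : ℕ → ℤ) (N : ℕ)
    (hh : ∀ n : ℕ, N ≤ n → h n = ∑ i ∈ Finset.range (r + 1), (n.choose i : ℤ) * a i) (n : ℕ) (hn : N + r ≤ n) :
    bdiff r h n = a r := by
  have key : ∀ j, j ≤ r → ∀ m : ℕ, N ≤ m → bdiff j h ((m + j : ℕ) : ℤ) =
      ∑ i ∈ Finset.range (r + 1 - j), (m.choose i : ℤ) * a (i + j) := by
    intro j
    induction j with
    | zero => intro _ m hm; simpa [bdiff] using hh m hm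
    | succ j ih =>
      intro hj m hm
      show bdiff j h ((m + (j + 1) : ℕ) : ℤ) - bdiff j h (((m + (j + 1) : ℕ) : ℤ) - 1) = _
      rw [show m + (j + 1) = m + 1 + j by omega, ih (by omega) (m + 1) (by omega),
        show ((m + 1 + j : ℕ) : ℤ) - 1 = ((m + j : ℕ) : ℤ) by push_cast; ring, ih (by omega) m hm,
        show r + 1 - j = (r + 1 - (j + 1)) + 1 by omega, Finset.sum_range_succ', Finset.sum_range_succ']
      simp only [Nat.choose_zero_right, add_sub_add_right_eq_sub, ← Finset.sum_sub_distrib]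
      refine Finset.sum_congr rfl fun i _ => ?_
      rw [Nat.choose_succ_succ, Nat.cast_add, show i + 1 + j = i + (j + 1) by omega]
      ring
  have := key r le_rfl (n - r) (by omega)
  rw [show n - r + r = n by omega, show r + 1 - r = 1 by omega, Finset.sum_range_one, Nat.choose_zero_right,
    Nat.cast_one, one_mul, zero_add] at this
  exact this

/-- The Hilbert-Samuel function, extended to integers. -/
noncomputable def hsFun (J : Ideal A) (M : ModuleCat.{u} A) (n : ℤ) : ℤ :=
  len A (M ⧸ (J ^ n.toNat • (⊤ : Submodule A M)))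

theorem KF_smul (J : Ideal A) (M : ModuleCat.{u} A) (l : List A) {a : A} (ha : a ∈ J) (n i : ℤ)
    (x : (koszulCx M l).X i) (hx : x ∈ KF J M l (n - 1) i) : a • x ∈ KF J M l n i := by
  rw [KF_eq] at hx ⊢
  refine Submodule.smul_mono_left (Ideal.pow_le_pow_right
    (show (n + i).toNat ≤ (n - 1 + i).toNat + 1 by omega)) ?_
  rw [pow_succ', Submodule.mul_smul]
  exact Submodule.smul_mem_smul ha hx

theorem chi_KF [IsNoetherianRing A] (J : Ideal A) (M : ModuleCat.{u} A) [Module.Finite A M]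
    (hfl : IsFiniteLength A (M ⧸ (J • (⊤ : Submodule A M)))) :
    ∀ (l : List A), (∀ a ∈ l, a ∈ J) → ∀ n : ℤ,
      (∀ i, IsFiniteLength A (HR (koszulCx M l) (KF J M l n) i)) ∧
        chiFam (A := A) (HR (koszulCx M l) (KF J M l n)) = bdiff l.length (hsFun J M) n
  | [], _, n => by
    have h0 : ∀ i : ℤ, i ≠ 0 → Subsingleton (HR (koszulCx M []) (KF J M [] n) i) := fun i hi =>
      have := subsingleton_X M [] i (by simp; omega)
      subsingleton_HR
    have := subsingleton_X M [] (0 + 1) (by simp)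
    have hz : ∀ x : (koszulCx M []).X 0, x ∈ relZ (koszulCx M []) (KF J M [] n) 0 := fun x => by
      rw [mem_relZ (0 + 1) rfl, Subsingleton.elim (((koszulCx M []).d 0 (0 + 1)).hom x) 0]
      exact zero_mem _
    let φ : M →ₗ[A] HR (koszulCx M []) (KF J M [] n) 0 :=
      (Submodule.mkQ _) ∘ₗ (bot0 M).symm.toLinearMap.codRestrict _ fun m => hz _
    have hφ : Function.Surjective φ := fun q => by
      obtain ⟨z, rfl⟩ := Submodule.Quotient.mk_surjective _ q
      exact ⟨bot0 M z.1, congrArg Submodule.Quotient.mk (Subtype.ext ((bot0 M).symm_apply_apply z.1))⟩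
    have hker : LinearMap.ker φ = J ^ n.toNat • (⊤ : Submodule A M) := by
      ext m
      rw [LinearMap.mem_ker]
      refine (mk_eq_zero (⟨(bot0 M).symm m, hz _⟩ : relZ (koszulCx M []) (KF J M [] n) 0)).trans ?_
      have : Subsingleton ((koszulCx M []).X (0 - 1)) := subsingleton_X M [] _ (by simp)
      have hr : LinearMap.range ((koszulCx M []).d (0 - 1) 0).hom = ⊥ := by
        rw [LinearMap.range_eq_bot]
        exact LinearMap.ext fun x => by rw [Subsingleton.elim x 0, map_zero, map_zero]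
      rw [relB, hr, sup_bot_eq, KF_eq, add_zero]
      constructor
      · intro h
        simpa using Submodule.smul_top_le_comap_smul_top (J ^ n.toNat) (bot0 M).toLinearMap h
      · exact fun h => Submodule.smul_top_le_comap_smul_top (J ^ n.toNat) (bot0 M).symm.toLinearMap h
    let e : (M ⧸ (J ^ n.toNat • (⊤ : Submodule A M))) ≃ₗ[A] HR (koszulCx M []) (KF J M [] n) 0 :=
      (Submodule.quotEquivOfEq _ _ hker.symm).trans (φ.quotKerEquivOfSurjective hφ)
    refine ⟨fun i => ?_, ?_⟩
    · by_cases hi : i = 0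
      · subst hi
        exact e.isFiniteLength (EGA41Lib.HS.isFiniteLength_quotient_pow J hfl _)
      · have := h0 i hi
        exact IsFiniteLength.of_subsingleton
    · rw [chiFam, finsum_eq_single _ 0 fun i hi => by
        have := h0 i hi
        rw [len_of_subsingleton, mul_zero], sgn_zero, one_mul, ← len_congr e]
      rfl
  | a :: l, hl, n => by
    have ha : a ∈ J := hl a (List.mem_cons_self ..)
    have ih := chi_KF J M hfl l fun b hb => hl b (List.mem_cons_of_mem _ hb)
    obtain ⟨h1, h2⟩ := chiFam_cone a (KF J M l (n - 1)) (KF J M l n) (KF_smul J M l ha n) l.length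
      (fun i hi => subsingleton_X M l i (by omega)) (ih (n - 1)).1 (ih n).1
    refine ⟨h1, h2.trans ?_⟩
    rw [(ih n).2, (ih (n - 1)).2]
    rfl

theorem exists_exact_bound [IsNoetherianRing A] (M : ModuleCat.{u} A) [Module.Finite A M] (l : List A) :
    ∃ c : ℕ, ∀ m : ℕ, c ≤ m → ∀ (i : ℤ) (x : (koszulCx M l).X (i + 1)),
      x ∈ Ideal.ofList l ^ (m + 1) • (⊤ : Submodule A ((koszulCx M l).X (i + 1))) →
      ((koszulCx M l).d (i + 1) (i + 1 + 1)).hom x = 0 →
      ∃ y ∈ Ideal.ofList l ^ m • (⊤ : Submodule A ((koszulCx M l).X i)),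
        ((koszulCx M l).d i (i + 1)).hom y = x := by
  classical
  let I := Ideal.ofList l
  let Z : ∀ j, Submodule A ((koszulCx M l).X j) := fun j => LinearMap.ker ((koszulCx M l).d j (j + 1)).hom
  have hex : ∀ j, ∃ c : ℕ, ∀ n, c ≤ n → I ^ n • (⊤ : Submodule A ((koszulCx M l).X j)) ⊓ Z j =
      I ^ (n - c) • (I ^ c • (⊤ : Submodule A ((koszulCx M l).X j)) ⊓ Z j) := fun j => by
    have := finite_X M l j
    exact Ideal.exists_pow_inf_eq_pow_smul I (Z j)
  choose c hc using hex
  refine ⟨(Finset.Icc (-(l.length : ℤ)) 0).sup c, fun m hm i x hx hdx => ?_⟩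
  by_cases hi : i + 1 < -(l.length : ℤ) ∨ 0 < i + 1
  · have := subsingleton_X M l (i + 1) hi
    exact ⟨0, zero_mem _, Subsingleton.elim _ _⟩
  · have hcm : c (i + 1) ≤ m :=
      (Finset.le_sup (f := c) (Finset.mem_Icc.2 (by omega))).trans hm
    have hxT : x ∈ I • (I ^ m • (⊤ : Submodule A ((koszulCx M l).X (i + 1))) ⊓ Z (i + 1)) := by
      rw [hc _ m hcm, ← Submodule.mul_smul, ← pow_succ', show m - c (i + 1) + 1 = m + 1 - c (i + 1) by omega,
        ← hc _ (m + 1) (by omega)]
      exact ⟨hx, hdx⟩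
    refine Submodule.smul_induction_on hxT (fun b hb z hz => ?_) fun y z hy hz => ?_
    · obtain ⟨η, hη⟩ := nullHtpy_of_mem_span M l hb
      refine ⟨η (i + 1) i rfl z, Submodule.smul_top_le_comap_smul_top _ (η (i + 1) i rfl) hz.1, ?_⟩
      have hdz : ((koszulCx M l).d (i + 1) (i + 1 + 1)).hom z = 0 := hz.2
      rw [← hη i (i + 1) (i + 1 + 1) rfl rfl z, hdz, map_zero, add_zero]
    · obtain ⟨u, hu, rfl⟩ := hy
      obtain ⟨v, hv, rfl⟩ := hz
      exact ⟨u + v, add_mem hu hv, map_add _ _ _⟩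

theorem exists_homology_iso [IsNoetherianRing A] (M : ModuleCat.{u} A) [Module.Finite A M] (l : List A) :
    ∃ N : ℕ, ∀ n : ℕ, N ≤ n → ∀ i,
      Nonempty (KH M l i ≃ₗ[A] HR (koszulCx M l) (KF (Ideal.ofList l) M l n) i) := by
  obtain ⟨c, hc⟩ := exists_exact_bound M l
  refine ⟨c + l.length + 2, fun n hn i => ?_⟩
  let C := koszulCx M l
  let F := KF (Ideal.ofList l) M l n
  by_cases hi : i < -(l.length : ℤ) ∨ 0 < i
  · have := subsingleton_X M l i hi
    have h1 : Subsingleton (KH M l i) := subsingleton_HR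
    have h2 : Subsingleton (HR C F i) := subsingleton_HR
    exact ⟨LinearEquiv.ofSubsingleton _ _⟩
  obtain ⟨k, rfl⟩ : ∃ k, i = k + 1 := ⟨i - 1, by ring⟩
  obtain ⟨m, hm, hmc⟩ : ∃ m : ℕ, ((n : ℤ) + k).toNat = m ∧ c ≤ m := ⟨_, rfl, by omega⟩
  have hF : ∀ (j : ℤ) (q : ℕ), ((n : ℤ) + j).toNat = q →
      F j = Ideal.ofList l ^ q • (⊤ : Submodule A (C.X j)) := fun j q hq => by
    rw [show F j = _ from KF_eq _ M l _ j, hq]
  let φ : relZ C (fun _ => ⊥) (k + 1) →ₗ[A] HR C F (k + 1) :=
    Submodule.mkQ _ ∘ₗ Submodule.inclusion (fun x hx => Submodule.comap_mono bot_le hx)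
  let ψ : KH M l (k + 1) →ₗ[A] HR C F (k + 1) := Submodule.liftQ _ φ (fun z hz => (mk_eq_zero _).2 (by
    exact SetLike.le_def.1 (sup_le_sup_right bot_le _) hz))
  refine ⟨LinearEquiv.ofBijective ψ ⟨?_, ?_⟩⟩
  · rw [← LinearMap.ker_eq_bot, eq_bot_iff]
    intro q hq
    obtain ⟨⟨z, hz⟩, rfl⟩ := Submodule.Quotient.mk_surjective _ q
    rw [Submodule.mem_bot]
    refine (mk_eq_zero _).2 ?_
    have h' : z ∈ relB C F (k + 1) := (mk_eq_zero _).1 hq
    obtain ⟨g, hg, w, hgw⟩ := (mem_relB k rfl).1 h'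
    have hz' : (C.d (k + 1) (k + 1 + 1)).hom z = 0 := (Submodule.mem_bot A).1 hz
    rw [hF (k + 1) (m + 1) (by omega)] at hg
    have hdg : (C.d (k + 1) (k + 1 + 1)).hom g = 0 := by
      have h := congrArg (C.d (k + 1) (k + 1 + 1)).hom hgw
      rwa [map_add, hz', ← LinearMap.comp_apply, ← ModuleCat.hom_comp, C.d_comp_d, ModuleCat.hom_zero,
        LinearMap.zero_apply, add_zero] at h
    obtain ⟨y, -, hy⟩ := hc m hmc k g hg hdg
    exact (mem_relB k rfl).2 ⟨0, zero_mem _, y + w, by rw [zero_add, map_add, hy, hgw]⟩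
  · intro q
    obtain ⟨⟨x, hx⟩, rfl⟩ := Submodule.Quotient.mk_surjective _ q
    have hx' : (C.d (k + 1) (k + 1 + 1)).hom x ∈ Ideal.ofList l ^ (m + 2) • (⊤ : Submodule A (C.X (k + 1 + 1))) := by
      rw [← hF (k + 1 + 1) (m + 2) (by omega)]
      exact (mem_relZ (k + 1 + 1) rfl).1 hx
    obtain ⟨y, hy, hdy⟩ := hc (m + 1) (by omega) (k + 1) _ hx' (by
      rw [← LinearMap.comp_apply, ← ModuleCat.hom_comp, C.d_comp_d, ModuleCat.hom_zero, LinearMap.zero_apply])
    refine ⟨Submodule.Quotient.mk ⟨x - y, (Submodule.mem_bot A).2 (by rw [map_sub, hdy, sub_self])⟩,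
      (Submodule.Quotient.eq _).2 ((mem_relB k rfl).2 ⟨-y, ?_, 0, ?_⟩)⟩
    · rw [hF (k + 1) (m + 1) (by omega)]
      exact neg_mem hy
    · rw [map_zero, add_zero]
      show -y = x - y - x
      abel

/-- The Hilbert-Samuel function of the ideal of the sequence has top coefficient `chi`. -/
theorem exists_samuel [IsNoetherianRing A] (M : ModuleCat.{u} A) [Module.Finite A M] (l : List A)
    (hfl : IsFiniteLength A (M ⧸ (Ideal.ofList l • (⊤ : Submodule A M)))) :
    ∃ (a : ℕ → ℤ) (N : ℕ), a l.length = chi M l ∧ ∀ n, N ≤ n →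
      (EGA41Lib.HS.lenN A (M ⧸ (Ideal.ofList l ^ n • (⊤ : Submodule A M))) : ℤ) =
        ∑ i ∈ Finset.range (l.length + 1), (n.choose i : ℤ) * a i := by
  obtain ⟨a, N, ha⟩ := EGA41Lib.HS.ep_length_quotient_pow (M := M) (Ideal.ofList l) (fun i : Fin l.length => l.get i)
    (by rw [Set.range_list_get]) hfl
  obtain ⟨N', hN'⟩ := exists_homology_iso M l
  refine ⟨a, N, ?_, ha⟩
  have h1 := bdiff_choose (hsFun (Ideal.ofList l) M) l.length a N (fun n hn => by
    rw [hsFun, Int.toNat_natCast, ← ha n hn]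
    rfl) (max N' (N + l.length)) (le_max_right _ _)
  rw [← h1, ← (chi_KF (Ideal.ofList l) M hfl l (fun b hb => Ideal.subset_span hb) _).2]
  exact (chiFam_congr (hN' _ (le_max_left _ _))).symm

theorem tendsto_choose_div (i r : ℕ) (hir : i ≤ r) :
    Tendsto (fun n : ℕ => (r.factorial : ℝ) * (n.choose i : ℝ) / (n : ℝ) ^ r) atTop (𝓝 (if i = r then 1 else 0)) := by
  have h := (Asymptotics.isEquivalent_iff_tendsto_one (by
    filter_upwards [eventually_ge_atTop 1] with n hn
    have : (0 : ℝ) < n := by exact_mod_cast hn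
    positivity)).1 (isEquivalent_choose i)
  by_cases hi : i = r
  · subst hi
    rw [if_pos rfl]
    refine h.congr fun n => ?_
    simp only [Pi.div_apply]
    rw [div_div_eq_mul_div, mul_comm]
  · rw [if_neg hi]
    have h2 := (tendsto_const_div_pow ((r.factorial : ℝ) / i.factorial) (r - i) (by omega)).mul h
    rw [zero_mul] at h2
    refine h2.congr' ?_
    filter_upwards [eventually_ge_atTop 1] with n hn
    have hn0 : (n : ℝ) ≠ 0 := by positivity
    simp only [Pi.div_apply]
    rw [show (n : ℝ) ^ r = (n : ℝ) ^ (r - i) * (n : ℝ) ^ i by rw [← pow_add]; congr 1; omega]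
    field_simp

theorem tendsto_sum_choose (a : ℕ → ℤ) (r : ℕ) :
    Tendsto (fun n : ℕ => (r.factorial : ℝ) * ((∑ i ∈ Finset.range (r + 1), (n.choose i : ℤ) * a i : ℤ) : ℝ) /
      (n : ℝ) ^ r) atTop (𝓝 (a r : ℝ)) := by
  have h := tendsto_finset_sum (Finset.range (r + 1)) fun i hi =>
    (tendsto_choose_div i r (Nat.lt_succ_iff.1 (Finset.mem_range.1 hi))).mul_const (a i : ℝ)
  simp only [ite_mul, one_mul, zero_mul, Finset.sum_ite_eq', Finset.mem_range, Nat.lt_succ_self, if_true] at h
  refine h.congr fun n => ?_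
  push_cast
  rw [Finset.mul_sum, Finset.sum_div]
  exact Finset.sum_congr rfl fun i _ => by ring

/-- The Euler characteristic as a limit. -/
theorem tendsto_chi [IsNoetherianRing A] (M : ModuleCat.{u} A) [Module.Finite A M] (l : List A)
    (hfl : IsFiniteLength A (M ⧸ (Ideal.ofList l • (⊤ : Submodule A M)))) :
    Tendsto (fun n : ℕ => (l.length.factorial : ℝ) *
        ((Module.length A (M ⧸ (Ideal.ofList l ^ n • (⊤ : Submodule A M)))).toNat : ℝ) / (n : ℝ) ^ l.length)
      atTop (𝓝 (chi M l : ℝ)) := by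
  obtain ⟨a, N, ha, hN⟩ := exists_samuel M l hfl
  rw [← ha]
  refine (tendsto_sum_choose a l.length).congr' ?_
  filter_upwards [eventually_ge_atTop N] with n hn
  rw [← hN n hn, Int.cast_natCast]
  rfl

theorem chi_nonneg [IsNoetherianRing A] (M : ModuleCat.{u} A) [Module.Finite A M] (l : List A)
    (hfl : IsFiniteLength A (M ⧸ (Ideal.ofList l • (⊤ : Submodule A M)))) : 0 ≤ chi M l := by
  have := ge_of_tendsto' (tendsto_chi M l hfl) fun n => by positivity
  exact_mod_cast this

theorem chi_congr [IsNoetherianRing A] (M : ModuleCat.{u} A) [Module.Finite A M] (l l' : List A)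
    (hlen : l.length = l'.length) (heq : Ideal.ofList l = Ideal.ofList l')
    (hfl : IsFiniteLength A (M ⧸ (Ideal.ofList l • (⊤ : Submodule A M)))) : chi M l = chi M l' := by
  have h1 := tendsto_chi M l hfl
  have h2 := tendsto_chi M l' (heq ▸ hfl)
  rw [← hlen, ← heq] at h2
  exact_mod_cast tendsto_nhds_unique h1 h2

end Groth.Agent.CAlgH.KoszulEuler
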