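import Groth.Agent.CAlgH.KoszulEuler.Samuel
import Mathlib.RingTheory.Ideal.AssociatedPrime.Finiteness
import Mathlib.LinearAlgebra.Dimension.Localization

/-!
# Vanishing, positivity, powers and rank formula for the Koszul Euler characteristic
-/

universe u

set_option autoImplicit false
set_option backward.isDefEq.respectTransparency false
set_option backward.isDefEq.respectTransparency.types false

open CategoryTheory CategoryTheory.Limits Filter Topology
open Groth.Agent.CommAlg6
open scoped TensorProduct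

namespace Groth.Agent.CAlgH.KoszulEuler

variable {A : Type u} [CommRing A] [IsNoetherianRing A]

theorem ofList_ofFn {k : ℕ} (x : Fin k → A) : Ideal.ofList (List.ofFn x) = Ideal.span (Set.range x) :=
  congrArg Ideal.span (Set.ext fun a => by simp [Set.mem_range])

theorem chi_one_cons (M : ModuleCat.{u} A) [Module.Finite A M] (l : List A) : chi M ((1 : A) :: l) = 0 := by
  have hfl : IsFiniteLength A (M ⧸ (Ideal.ofList ((1 : A) :: l) • (⊤ : Submodule A M))) := by
    have : Subsingleton (M ⧸ (Ideal.ofList ((1 : A) :: l) • (⊤ : Submodule A M))) := by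
      rw [Submodule.Quotient.subsingleton_iff, show Ideal.ofList ((1 : A) :: l) = ⊤ from
        (Ideal.eq_top_iff_one _).2 (Ideal.subset_span (List.mem_cons_self ..)), Submodule.top_smul]
    exact IsFiniteLength.of_subsingleton
  have h := chi_mul_head' M l 1 1 hfl hfl
  rw [one_mul] at h
  omega

theorem chi_pow_head (M : ModuleCat.{u} A) [Module.Finite A M] (l : List A) (x : A)
    (h : IsFiniteLength A (M ⧸ (Ideal.ofList (x :: l) • (⊤ : Submodule A M)))) :
    ∀ m : ℕ, IsFiniteLength A (M ⧸ (Ideal.ofList (x ^ m :: l) • (⊤ : Submodule A M))) ∧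
      chi M (x ^ m :: l) = m * chi M (x :: l)
  | 0 => by
    refine ⟨?_, by rw [pow_zero, chi_one_cons, Nat.cast_zero, zero_mul]⟩
    have : Subsingleton (M ⧸ (Ideal.ofList (x ^ 0 :: l) • (⊤ : Submodule A M))) := by
      rw [Submodule.Quotient.subsingleton_iff, show Ideal.ofList (x ^ 0 :: l) = ⊤ from
        (Ideal.eq_top_iff_one _).2 (Ideal.subset_span (by simp)), Submodule.top_smul]
    exact IsFiniteLength.of_subsingleton
  | m + 1 => by
    obtain ⟨h1, h2⟩ := chi_pow_head M l x h m
    refine ⟨?_, ?_⟩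
    · rw [pow_succ]
      exact isFiniteLength_quotient_mul M l _ _ h1 h
    · rw [pow_succ, chi_mul_head' M l _ _ h1 h, h2]
      push_cast
      ring

theorem ofList_middle (a c : List A) (b : A) : Ideal.ofList (a ++ b :: c) = Ideal.ofList (b :: (a ++ c)) := by
  simp only [Ideal.ofList_append, Ideal.ofList_cons]
  ac_rfl

theorem chi_pow_ofFn (M : ModuleCat.{u} A) [Module.Finite A M] :
    ∀ (k : ℕ) (pre : List A) (x : Fin k → A) (m : Fin k → ℕ),
      IsFiniteLength A (M ⧸ (Ideal.ofList (pre ++ List.ofFn x) • (⊤ : Submodule A M))) →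
      IsFiniteLength A (M ⧸ (Ideal.ofList (pre ++ List.ofFn fun j => x j ^ m j) • (⊤ : Submodule A M))) ∧
        chi M (pre ++ List.ofFn fun j => x j ^ m j) = (∏ j, (m j : ℤ)) * chi M (pre ++ List.ofFn x)
  | 0, pre, x, m, h => by
    rw [List.ofFn_zero] at h
    rw [List.ofFn_zero, List.ofFn_zero]
    exact ⟨h, by simp⟩
  | k + 1, pre, x, m, h => by
    rw [List.ofFn_succ] at h
    rw [List.ofFn_succ, List.ofFn_succ]
    let t : List A := List.ofFn fun j : Fin k => x j.succ ^ m j.succ
    obtain ⟨h1, h2⟩ := chi_pow_ofFn M k (pre ++ [x 0]) (fun j => x j.succ) (fun j => m j.succ)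
      (by rwa [List.append_assoc, List.singleton_append])
    rw [List.append_assoc, List.singleton_append] at h1 h2
    rw [List.append_assoc, List.singleton_append] at h2
    have h3 := h1
    rw [ofList_middle] at h3
    obtain ⟨h4, h5⟩ := chi_pow_head M (pre ++ t) (x 0) h3 (m 0)
    have h6 : IsFiniteLength A (M ⧸ (Ideal.ofList (pre ++ x 0 ^ m 0 :: t) • (⊤ : Submodule A M))) := by
      rwa [ofList_middle]
    refine ⟨h6, ?_⟩
    rw [chi_congr M (pre ++ x 0 ^ m 0 :: t) (x 0 ^ m 0 :: (pre ++ t)) (by simp; omega) (ofList_middle _ _ _) h6, h5,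
      ← chi_congr M (pre ++ x 0 :: t) (x 0 :: (pre ++ t)) (by simp; omega) (ofList_middle _ _ _) h1, h2,
      Fin.prod_univ_succ, mul_assoc]

variable [IsLocalRing A]

open IsLocalRing

theorem jacobson_eq_maximalIdeal : Ring.jacobson A = maximalIdeal A := by
  rw [Ring.jacobson_eq_sInf_isMaximal]
  refine le_antisymm (sInf_le (maximalIdeal.isMaximal A)) (le_sInf fun I hI => ?_)
  exact (eq_maximalIdeal hI).ge

theorem exists_pow_le (M : Type u) [AddCommGroup M] [Module A M] [Module.Finite A M] (J : Ideal A)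
    (hfl : IsFiniteLength A (M ⧸ (J • (⊤ : Submodule A M)))) :
    ∃ c : ℕ, ∀ n : ℕ, maximalIdeal A ^ (c * n) • (⊤ : Submodule A M) ≤ J ^ n • (⊤ : Submodule A M) := by
  obtain ⟨c, hc⟩ : ∃ c : ℕ, maximalIdeal A ^ c • (⊤ : Submodule A (M ⧸ (J • (⊤ : Submodule A M)))) = ⊥ := by
    have : IsArtinian A (M ⧸ (J • (⊤ : Submodule A M))) := ((isFiniteLength_iff_isNoetherian_isArtinian).1 hfl).2
    obtain ⟨c, hc⟩ := IsArtinian.monotone_stabilizes (R := A) (M := M ⧸ (J • (⊤ : Submodule A M)))
      ⟨fun n : ℕ => OrderDual.toDual (maximalIdeal A ^ n • (⊤ : Submodule A (M ⧸ (J • (⊤ : Submodule A M))))),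
        fun a b hab => Submodule.smul_mono_left (Ideal.pow_le_pow_right hab)⟩
    refine ⟨c, Submodule.eq_bot_of_le_smul_of_le_jacobson_bot (maximalIdeal A) _
      (IsNoetherian.noetherian _) ?_ (IsLocalRing.maximalIdeal_le_jacobson ⊥)⟩
    rw [← Submodule.mul_smul, ← pow_succ']
    exact (congrArg OrderDual.ofDual (hc (c + 1) (Nat.le_succ c))).le
  have hc' : maximalIdeal A ^ c • (⊤ : Submodule A M) ≤ J • ⊤ := by
    rw [← Submodule.ker_mkQ (J • (⊤ : Submodule A M)), LinearMap.ker, ← Submodule.map_le_iff_le_comap,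
      Submodule.map_smul'', Submodule.map_top, Submodule.range_mkQ, hc]
  refine ⟨c, fun n => ?_⟩
  induction n with
  | zero => simp
  | succ n ih =>
    rw [Nat.mul_succ, add_comm, pow_add, Submodule.mul_smul]
    refine (Submodule.smul_mono le_rfl ih).trans ?_
    rw [← Submodule.mul_smul, mul_comm, Submodule.mul_smul, pow_succ, Submodule.mul_smul]
    exact Submodule.smul_mono le_rfl hc'

theorem isFiniteLength_quotient_pow_maximal (M : Type u) [AddCommGroup M] [Module A M] [Module.Finite A M] (n : ℕ) :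
    IsFiniteLength A (M ⧸ (maximalIdeal A ^ n • (⊤ : Submodule A M))) := by
  refine EGA41Lib.HS.isFiniteLength_quotient_pow _ ?_ n
  rw [EGA41Lib.isFiniteLength_iff_supportDim_le_zero]
  refine Order.krullDim_nonpos_iff_forall_isMax.2 fun p q _ => ?_
  have hp : (maximalIdeal A : Set A) ⊆ p.1.asIdeal :=
    ((Module.support_quotient (M := M) (maximalIdeal A)).le p.2).2
  show q.1 ≤ p.1
  exact (le_maximalIdeal q.1.isPrime.ne_top).trans hp

/-- Vanishing above the dimension. -/
theorem chi_eq_zero_of_dim_lt (M : ModuleCat.{u} A) [Module.Finite A M] (l : List A)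
    (hfl : IsFiniteLength A (M ⧸ (Ideal.ofList l • (⊤ : Submodule A M))))
    (hdim : Module.supportDim A M < (l.length : WithBot ℕ∞)) : chi M l = 0 := by
  have h := tendsto_chi M l hfl
  refine Int.cast_injective (α := ℝ) (tendsto_nhds_unique h ?_)
  rw [Int.cast_zero]
  rcases subsingleton_or_nontrivial M with hM | hM
  · refine tendsto_const_nhds.congr fun n => ?_
    have : Subsingleton (M ⧸ (Ideal.ofList l ^ n • (⊤ : Submodule A M))) := (Submodule.mkQ_surjective _).subsingleton
    rw [Module.length_eq_zero_iff.2 inferInstance]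
    simp
  have : Finite (MaximalSpectrum A) := inferInstance
  obtain ⟨P, ⟨N, hN⟩, hdeg⟩ := EGA41Lib.HS.exists_polynomial_degree (A := A) (M := M)
  rw [jacobson_eq_maximalIdeal] at hN
  rw [← hdeg, Nat.cast_lt] at hdim
  obtain ⟨c, hc⟩ := exists_pow_le (M : Type u) (Ideal.ofList l) hfl
  let Q : Polynomial ℝ := (P.map (algebraMap ℚ ℝ)).comp (Polynomial.C (((c + 1 : ℕ) : ℝ)) * Polynomial.X)
  have hQdeg : Q.degree < ((Polynomial.X : Polynomial ℝ) ^ l.length).degree := by
    rw [Polynomial.degree_X_pow]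
    refine Polynomial.degree_le_natDegree.trans_lt (Nat.cast_lt.2 (lt_of_le_of_lt ?_ hdim))
    refine Polynomial.natDegree_comp_le.trans ?_
    rw [Polynomial.natDegree_map]
    exact (Nat.mul_le_mul_left _ ((Polynomial.natDegree_C_mul_le _ _).trans Polynomial.natDegree_X.le)).trans (mul_one _).le
  have hlim := ((Polynomial.div_tendsto_zero_of_degree_lt Q _ hQdeg).const_mul (l.length.factorial : ℝ)).comp
    (tendsto_natCast_atTop_atTop (R := ℝ))
  rw [mul_zero] at hlim
  refine squeeze_zero' (Eventually.of_forall fun n => by positivity) ?_ hlim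
  filter_upwards [eventually_ge_atTop N, eventually_ge_atTop 1] with n hn hn1
  simp only [Function.comp_apply, Polynomial.eval_pow, Polynomial.eval_X, ← mul_div_assoc]
  gcongr
  obtain ⟨ℓ, hℓ, hℓP⟩ := hN ((c + 1) * n) (hn.trans (Nat.le_mul_of_pos_left _ c.succ_pos))
  have e : Q.eval (n : ℝ) = (ℓ : ℝ) := by
    rw [Polynomial.eval_comp, Polynomial.eval_mul, Polynomial.eval_C, Polynomial.eval_X, ← Nat.cast_mul,
      ← map_natCast (algebraMap ℚ ℝ) ((c + 1) * n), Polynomial.eval_map_algebraMap, Polynomial.aeval_algebraMap_apply,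
      Polynomial.coe_aeval_eq_eval, ← hℓP, map_natCast]
  rw [e, Nat.cast_le, ← ENat.coe_le_coe]
  refine (ENat.coe_toNat_le_self _).trans (le_of_le_of_eq ?_ hℓ)
  refine Module.length_le_of_surjective (Submodule.factor ?_) (Submodule.factor_surjective _)
  exact (Submodule.smul_mono_left (Ideal.pow_le_pow_right (Nat.mul_le_mul_right _ c.le_succ))).trans (hc n)

/-- Positivity in dimension equal to the length of the sequence. -/
theorem chi_pos (M : ModuleCat.{u} A) [Module.Finite A M] (l : List A) (hl : ∀ a ∈ l, a ∈ maximalIdeal A)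
    (hfl : IsFiniteLength A (M ⧸ (Ideal.ofList l • (⊤ : Submodule A M))))
    (hdim : Module.supportDim A M = (l.length : WithBot ℕ∞)) : 0 < chi M l := by
  have : Finite (MaximalSpectrum A) := inferInstance
  obtain ⟨C, c, hC⟩ := EGA41Lib.HS.exists_lower_bound (A := A) (M := M) (d := l.length) hdim fun n => by
    rw [jacobson_eq_maximalIdeal]
    exact isFiniteLength_quotient_pow_maximal M n
  rw [jacobson_eq_maximalIdeal] at hC
  have hC0 : C ≠ 0 := fun h0 => by
    have := hC (c + 1) (Nat.lt_succ_self c)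
    simp [h0] at this
  have hle : ∀ n, c < n → (n - c) ^ l.length ≤
      C * (Module.length A (M ⧸ (Ideal.ofList l ^ n • (⊤ : Submodule A M)))).toNat := fun n hn => by
    refine (hC n hn).trans (Nat.mul_le_mul_left _ (ENat.toNat_le_toNat ?_
      (Module.length_ne_top_iff.2 (EGA41Lib.HS.isFiniteLength_quotient_pow _ hfl n))))
    exact Module.length_le_of_surjective
      (Submodule.factor (Submodule.smul_mono_left (Ideal.pow_right_mono (Ideal.span_le.2 hl) n)))
      (Submodule.factor_surjective _)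
  have hlim : Tendsto (fun n : ℕ => (l.length.factorial : ℝ) / C * (1 - (c : ℝ) / n) ^ l.length) atTop
      (𝓝 ((l.length.factorial : ℝ) / C)) := by
    have := (((tendsto_const_div_atTop_nhds_zero_nat (c : ℝ)).const_sub 1).pow l.length).const_mul
      ((l.length.factorial : ℝ) / C)
    simpa using this
  have := le_of_tendsto_of_tendsto hlim (tendsto_chi M l hfl) (by
    filter_upwards [eventually_gt_atTop c] with n hn
    have hn0 : (0 : ℝ) < n := by exact_mod_cast lt_of_le_of_lt (Nat.zero_le c) hn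
    have h : (((n - c) ^ l.length : ℕ) : ℝ) ≤
        ((C * (Module.length A (M ⧸ (Ideal.ofList l ^ n • (⊤ : Submodule A M)))).toNat : ℕ) : ℝ) :=
      Nat.cast_le.2 (hle n hn)
    push_cast [Nat.cast_sub hn.le] at h
    rw [show 1 - (c : ℝ) / n = ((n : ℝ) - c) / n by field_simp, div_pow, div_mul_div_comm,
      div_le_div_iff₀ (by positivity) (by positivity)]
    nlinarith [mul_le_mul_of_nonneg_left h (by positivity : (0 : ℝ) ≤ (l.length.factorial : ℝ) * (n : ℝ) ^ l.length)])
  have h0 : (0 : ℝ) < (chi M l : ℝ) := lt_of_lt_of_le (by positivity) this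
  exact_mod_cast h0

section Domain

variable [IsDomain A]

theorem finrank_tensor (N : Type u) [AddCommGroup N] [Module A N] :
    Module.finrank (FractionRing A) (FractionRing A ⊗[A] N) = Module.finrank A N :=
  (TensorProduct.isBaseChange A N (FractionRing A)).finrank_eq

theorem supportDim_lt_of_ne_bot {d : ℕ} (hd : ringKrullDim A = d) (p : Ideal A) (hp : p.IsPrime) (hp0 : p ≠ ⊥) :
    Module.supportDim A (A ⧸ p) < (d : WithBot ℕ∞) := by
  rw [Module.supportDim_quotient_eq_ringKrullDim, ← hd]
  obtain ⟨a, ha, ha0⟩ := Submodule.exists_mem_ne_zero_of_ne_bot hp0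
  have h1 : ringKrullDim (A ⧸ p) ≤ ringKrullDim (A ⧸ Ideal.span {a}) :=
    ringKrullDim_le_of_surjective _ (Ideal.Quotient.factor_surjective
      ((Ideal.span_singleton_le_iff_mem _).2 ha))
  have h2 := ringKrullDim_quotient_succ_le_of_nonZeroDivisor (mem_nonZeroDivisors_iff_ne_zero.2 ha0)
  rw [hd] at h2 ⊢
  refine h1.trans_lt ?_
  cases hX : ringKrullDim (A ⧸ Ideal.span {a}) using WithBot.recBotCoe with
  | bot => exact WithBot.bot_lt_coe _
  | coe e =>
    rw [hX] at h2
    have h3 : e + 1 ≤ (d : ℕ∞) := WithBot.coe_le_coe.1 h2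
    exact WithBot.coe_lt_coe.2 (lt_of_lt_of_le ((ENat.lt_add_one_iff' (ne_top_of_le_ne_top (ENat.coe_ne_top d) (le_self_add.trans h3))).2 le_rfl) h3)

/-- The rank formula. -/
theorem chi_eq_rank_mul (l : List A) (hd : ringKrullDim A = (l.length : WithBot ℕ∞))
    (hsop : IsFiniteLength A (A ⧸ Ideal.ofList l)) (M : Type u) [AddCommGroup M] [Module A M] [Module.Finite A M] :
    chi (ModuleCat.of A M) l = (Module.finrank A M : ℤ) * chi (ModuleCat.of A A) l := by
  have hfl : ∀ (N : Type u) [AddCommGroup N] [Module A N] [Module.Finite A N],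
      IsFiniteLength A (N ⧸ (Ideal.ofList l • (⊤ : Submodule A N))) := fun N _ _ _ =>
    isFiniteLength_of_support_subset (fun q hq => by
      rw [Module.support_quotient] at hq
      rw [Module.support_eq_zeroLocus, Ideal.annihilator_quotient]
      exact hq.2) hsop
  refine IsNoetherianRing.induction_on_isQuotientEquivQuotientPrime A (M := M) ‹_›
    (motive := fun N => chi (ModuleCat.of A N) l = (Module.finrank A N : ℤ) * chi (ModuleCat.of A A) l) ?_ ?_ ?_
  · intro N _ _ _ _
    rw [Module.finrank_zero_of_subsingleton, Nat.cast_zero, zero_mul, chi, chiFam]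
    refine finsum_eq_zero_of_forall_eq_zero fun i => ?_
    have h := subsingleton_KH_of_subsingleton (ModuleCat.of A N) l i
    rw [len_of_subsingleton, mul_zero]
  · intro N _ _ _ p e
    by_cases hp : p.1 = ⊥
    · let e' : N ≃ₗ[A] A := e.trans (Submodule.quotEquivOfEqBot _ hp)
      rw [e'.finrank_eq, Module.finrank_self, Nat.cast_one, one_mul]
      exact chi_congr_iso e'.toModuleIso l
    · have hT : Module.IsTorsion A N := by
        obtain ⟨a, ha, ha0⟩ := Submodule.exists_mem_ne_zero_of_ne_bot hp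
        refine fun {x} => ⟨⟨a, mem_nonZeroDivisors_iff_ne_zero.2 ha0⟩, e.injective ?_⟩
        rw [map_zero, show e ((⟨a, _⟩ : nonZeroDivisors A) • x) = a • e x from map_smul e a x]
        obtain ⟨b, hb⟩ := Ideal.Quotient.mk_surjective (e x)
        rw [← hb]
        exact Ideal.Quotient.eq_zero_iff_mem.2 (p.1.mul_mem_right b ha)
      rw [Module.finrank_eq_zero_iff_isTorsion.2 hT, Nat.cast_zero, zero_mul]
      refine chi_eq_zero_of_dim_lt _ l (hfl N) ?_
      rw [Module.supportDim_eq_of_equiv e]
      exact supportDim_lt_of_ne_bot hd p.1 p.2 hp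
  · intro N₁ _ _ _ N₂ _ _ _ N₃ _ _ _ f g hf hg hfg h₁ h₃
    rw [chi_additive (ModuleCat.ofHom f) (ModuleCat.ofHom g) hf hg hfg l
      (isFiniteLength_KH _ l (hfl N₁)) (isFiniteLength_KH _ l (hfl N₃)), h₁, h₃, ← add_mul, ← Nat.cast_add]
    congr 2
    rw [← (LinearMap.range f).finrank_quotient_add_finrank, ((LinearEquiv.ofInjective f hf)).finrank_eq,
      ((Submodule.quotEquivOfEq _ _ hfg.linearMap_ker_eq.symm).trans (g.quotKerEquivOfSurjective hg)).finrank_eq,
      add_comm]

end Domain

end Groth.Agent.CAlgH.KoszulEuler
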