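import Groth.Agent.CAlgH.KoszulEuler.Applications
import Mathlib.RingTheory.KrullDimension.Regular

/-!
# Growth of the Koszul homology of powers of a sequence
-/

universe u

set_option autoImplicit false
set_option backward.isDefEq.respectTransparency false
set_option backward.isDefEq.respectTransparency.types false

open CategoryTheory CategoryTheory.Limits Filter Topology CochainComplex
open Groth.Agent.Misc15.Koszul Groth.Agent.CommAlg6
open CohIII (koszulCx)

namespace Groth.Agent.CAlgH.KoszulEuler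

variable {A : Type u} [CommRing A]

theorem length_tensor_homology_eq (M : ModuleCat.{u} A) (l : List A) (i : ℤ) :
    Module.length A ((DRing.tensorCx (_root_.Koszul.koszul A l) M).homology i) = Module.length A (KH M l i) :=
  length_tensor_homology M l i

theorem length_cons_le (M : ModuleCat.{u} A) (a : A) (l : List A) (i : ℤ) :
    Module.length A (KH M (a :: l) i) ≤ Module.length A (KH M l i) + Module.length A (KH M l (i + 1)) := by
  have h := length_le_of_exact' _ _ (exact_in_out a (fun j : ℤ => (⊥ : Submodule A ((koszulCx M l).X j))) (fun _ => ⊥)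
    (fun j x hx => Submodule.smul_mem _ a hx) i)
  rw [coneG_bot] at h
  exact h

/-- For a regular element, the homology of the longer sequence embeds into that of the quotient. -/
theorem length_cons_le_of_regular (M Q : ModuleCat.{u} A) (a : A) (ha : IsSMulRegular M a) (π : M ⟶ Q)
    (hπ : Function.Surjective π.hom)
    (hex : Function.Exact (a • LinearMap.id : M →ₗ[A] M) π.hom) (l : List A) (i : ℤ) :
    Module.length A (KH M (a :: l) i) ≤ Module.length A (KH Q l i) := by
  obtain ⟨k, rfl⟩ : ∃ k, i = k + 1 := ⟨i - 1, by ring⟩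
  let μ : M ⟶ M := ModuleCat.ofHom (a • LinearMap.id : M →ₗ[A] M)
  have hμ : Function.Injective μ.hom := ha
  have hker : ∀ (j : ℤ) (y : (koszulCx M l).X j), ((kMap π l).f j).hom (a • y) = 0 := fun j y => by
    rw [← kMap_smul_id a M l j y]
    exact (kMap_exact μ π hex l j).apply_apply_eq_zero y
  have hcomm : ∀ (j : ℤ) (y : (koszulCx M l).X j),
      ((koszulCx Q l).d j (j + 1)).hom (((kMap π l).f j).hom y) =
        ((kMap π l).f (j + 1)).hom (((koszulCx M l).d j (j + 1)).hom y) := fun j y => by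
    have := congrArg (fun g => g.hom y) ((kMap π l).comm j (j + 1))
    simpa only [ModuleCat.hom_comp, LinearMap.comp_apply] using this
  let ψ : (mappingCone (a • 𝟙 (koszulCx M l))).X (k + 1) →ₗ[A] (koszulCx Q l).X (k + 1) :=
    ((kMap π l).f (k + 1)).hom ∘ₗ ((mappingCone.snd (a • 𝟙 (koszulCx M l))).v (k + 1) (k + 1) (add_zero _)).hom
  have hψ : ∀ z, ψ z = ((kMap π l).f (k + 1)).hom (csnd _ z) := fun _ => rfl
  have hz : ∀ z ∈ relZ (koszulCx M (a :: l)) (fun _ => ⊥) (k + 1), ψ z ∈ relZ (koszulCx Q l) (fun _ => ⊥) (k + 1) :=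
    fun z hzc => by
      have h0 := congrArg (csnd _) ((Submodule.mem_bot A).1 hzc)
      erw [csnd_d _ (k + 1 + 1) rfl, csnd_zero, smul_id_f] at h0
      refine (Submodule.mem_bot A).2 ?_
      rw [hψ, hcomm, eq_neg_of_add_eq_zero_right h0, map_neg, hker, neg_zero]
  have hb : ∀ z ∈ relB (koszulCx M (a :: l)) (fun _ => ⊥) (k + 1), ψ z ∈ relB (koszulCx Q l) (fun _ => ⊥) (k + 1) := by
    intro z hzb
    obtain ⟨g, hg, w, hgw⟩ := (mem_relB k rfl).1 hzb
    rw [(Submodule.mem_bot A).1 hg, zero_add] at hgw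
    refine (mem_relB k rfl).2 ⟨0, zero_mem _, ((kMap π l).f k).hom (csnd _ w), ?_⟩
    rw [zero_add, hψ, ← hgw, hcomm]
    erw [csnd_d _ (k + 1) rfl]
    rw [smul_id_f, map_add, hker, zero_add]
  let φ : KH M (a :: l) (k + 1) →ₗ[A] KH Q l (k + 1) :=
    Submodule.mapQ _ _ (ψ.restrict hz) fun z hzb => hb z.1 hzb
  refine Module.length_le_of_injective φ (LinearMap.ker_eq_bot.1 (eq_bot_iff.2 fun q hq => ?_))
  obtain ⟨⟨z, hzc⟩, rfl⟩ := Submodule.Quotient.mk_surjective _ q
  have h' : ψ z ∈ relB (koszulCx Q l) (fun _ => ⊥) (k + 1) :=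
    (mk_eq_zero (⟨ψ z, hz z hzc⟩ : relZ (koszulCx Q l) (fun _ => ⊥) (k + 1))).1 hq
  obtain ⟨g, hg, w', hgw⟩ := (mem_relB k rfl).1 h'
  rw [(Submodule.mem_bot A).1 hg, zero_add] at hgw
  obtain ⟨w, rfl⟩ := kMap_surjective π hπ l k w'
  have h0 : ((kMap π l).f (k + 1)).hom (csnd _ z - ((koszulCx M l).d k (k + 1)).hom w) = 0 := by
    rw [map_sub, ← hcomm, hgw, hψ, sub_self]
  obtain ⟨s, hs⟩ := (kMap_exact μ π hex l (k + 1) _).1 h0
  rw [kMap_smul_id a M l (k + 1) s] at hs
  have hcs := congrArg (csnd _) ((Submodule.mem_bot A).1 hzc)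
  erw [csnd_d _ (k + 1 + 1) rfl, csnd_zero, smul_id_f] at hcs
  have hu : cfst _ (k + 1 + 1) rfl z = -((koszulCx M l).d (k + 1) (k + 1 + 1)).hom s := by
    refine eq_neg_of_add_eq_zero_left (kMap_injective μ hμ l (k + 1 + 1) ?_)
    rw [map_zero, kMap_smul_id a M l (k + 1 + 1), smul_add, ← map_smul, hs, map_sub,
      ← LinearMap.comp_apply (((koszulCx M l).d (k + 1) (k + 1 + 1)).hom) (((koszulCx M l).d k (k + 1)).hom),
      ← ModuleCat.hom_comp, HomologicalComplex.d_comp_d, ModuleCat.hom_zero, LinearMap.zero_apply, sub_zero, hcs]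
  rw [Submodule.mem_bot]
  refine (mk_eq_zero _).2 ((mem_relB k rfl).2 ⟨0, zero_mem _, cmk _ (k + 1) rfl s w, ?_⟩)
  refine (zero_add _).trans (cone_ext _ (k + 1 + 1) rfl ?_ ?_)
  · erw [cfst_d _ (k + 1) (k + 1 + 1) rfl rfl, cfst_cmk]
    exact hu.symm
  · erw [csnd_d _ (k + 1) rfl, cfst_cmk, csnd_cmk]
    rw [smul_id_f, hs]
    exact sub_add_cancel _ _

/-- The quotient by multiples of `a`. -/
abbrev Qm (M : Type u) [AddCommGroup M] [Module A M] (a : A) : Type u :=
  M ⧸ LinearMap.range (a • LinearMap.id : M →ₗ[A] M)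

theorem length_pow_quotient_le (M : Type u) [AddCommGroup M] [Module A M] (x : A) (hx : IsSMulRegular M x)
    (l : List A) (i : ℤ) : ∀ j : ℕ, 0 < j →
      Module.length A (KH (ModuleCat.of A (Qm M (x ^ j))) l i) ≤
        (j : ℕ∞) * Module.length A (KH (ModuleCat.of A (Qm M x)) l i)
  | 0, h => absurd h (lt_irrefl 0)
  | 1, _ => by rw [pow_one, Nat.cast_one, one_mul]
  | j + 2, _ => by
    let f : Qm M x →ₗ[A] Qm M (x ^ (j + 2)) := Submodule.mapQ _ _ (x ^ (j + 1) • LinearMap.id) (by
      rintro _ ⟨m, rfl⟩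
      exact ⟨m, show x ^ (j + 2) • m = x ^ (j + 1) • x • m by rw [← mul_smul, ← pow_succ]⟩)
    let g : Qm M (x ^ (j + 2)) →ₗ[A] Qm M (x ^ (j + 1)) := Submodule.mapQ _ _ LinearMap.id (by
      rintro _ ⟨m, rfl⟩
      exact ⟨x • m, show x ^ (j + 1) • x • m = x ^ (j + 2) • m by rw [← mul_smul, ← pow_succ]⟩)
    have hf : Function.Injective f := by
      rw [← LinearMap.ker_eq_bot, eq_bot_iff]
      intro q hq
      obtain ⟨m, rfl⟩ := Submodule.Quotient.mk_surjective _ q
      obtain ⟨y, hy⟩ := (Submodule.Quotient.mk_eq_zero _).1 hq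
      rw [Submodule.mem_bot]
      refine (Submodule.Quotient.mk_eq_zero _).2 ⟨y, hx.pow (j + 1) ?_⟩
      show x ^ (j + 1) • x • y = x ^ (j + 1) • m
      rw [← mul_smul, ← pow_succ]
      exact hy
    have hg : Function.Surjective g := fun q => by
      obtain ⟨m, rfl⟩ := Submodule.Quotient.mk_surjective _ q
      exact ⟨Submodule.Quotient.mk m, rfl⟩
    have hfg : Function.Exact f g := fun q => by
      obtain ⟨m, rfl⟩ := Submodule.Quotient.mk_surjective _ q
      constructor
      · intro h
        obtain ⟨y, hy⟩ := (Submodule.Quotient.mk_eq_zero _).1 h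
        exact ⟨Submodule.Quotient.mk y, congrArg Submodule.Quotient.mk hy⟩
      · rintro ⟨p, hp⟩
        obtain ⟨y, rfl⟩ := Submodule.Quotient.mk_surjective _ p
        rw [← hp]
        exact (Submodule.Quotient.mk_eq_zero _).2 ⟨y, rfl⟩
    obtain ⟨a, b, δ, h1, -, -⟩ := exists_les (ModuleCat.ofHom f) (ModuleCat.ofHom g) hf hg hfg l
    refine (length_le_of_exact' _ _ (h1 i)).trans ?_
    refine (add_le_add le_rfl (length_pow_quotient_le M x hx l i (j + 1) (Nat.succ_pos j))).trans ?_
    rw [show ((j + 2 : ℕ) : ℕ∞) = 1 + ((j + 1 : ℕ) : ℕ∞) by push_cast; ring, add_mul, one_mul]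

/-- The list of powers. -/
def powL (l : List A) (n : ℕ) : List A := l.map (· ^ n)

/-- Polynomial growth of exponent `e` of Koszul homology of powers. -/
def Bd (M : ModuleCat.{u} A) (l : List A) (i : ℤ) (e : ℕ) : Prop :=
  ∃ c : ℕ, ∀ n : ℕ, 0 < n → Module.length A (KH M (powL l n) i) ≤ ((c * n ^ e : ℕ) : ℕ∞)

theorem Bd.of_subsingleton (M : ModuleCat.{u} A) (l : List A) (i : ℤ) (e : ℕ) (hi : i < -(l.length : ℤ) ∨ 0 < i) :
    Bd M l i e :=
  ⟨0, fun n _ => by
    have : Subsingleton ((koszulCx M (powL l n)).X i) := subsingleton_X M _ i (by simpa [powL] using hi)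
    have := subsingleton_HR (C := koszulCx M (powL l n)) (G := fun _ => ⊥) (i := i)
    rw [Module.length_eq_zero_iff.2 this]
    exact zero_le⟩

theorem Bd.mono {M : ModuleCat.{u} A} {l : List A} {i : ℤ} {e e' : ℕ} (he : e ≤ e') (h : Bd M l i e) :
    Bd M l i e' := by
  obtain ⟨c, hc⟩ := h
  exact ⟨c, fun n hn => (hc n hn).trans (Nat.cast_le.2 (Nat.mul_le_mul_left _ (Nat.pow_le_pow_right hn he)))⟩

theorem Bd.ses {M N P : ModuleCat.{u} A} (g : M ⟶ N) (h : N ⟶ P) (hg : Function.Injective g.hom)
    (hh : Function.Surjective h.hom) (hgh : Function.Exact g.hom h.hom) {l : List A} {i : ℤ} {e : ℕ}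
    (hM : Bd M l i e) (hP : Bd P l i e) : Bd N l i e := by
  obtain ⟨c, hc⟩ := hM
  obtain ⟨c', hc'⟩ := hP
  refine ⟨c + c', fun n hn => ?_⟩
  obtain ⟨a, b, δ, h1, -, -⟩ := exists_les g h hg hh hgh (powL l n)
  refine (length_le_of_exact' _ _ (h1 i)).trans ((add_le_add (hc n hn) (hc' n hn)).trans ?_)
  rw [← Nat.cast_add, ← add_mul]

theorem Bd.cons {M : ModuleCat.{u} A} {a : A} {l : List A} {i : ℤ} {e : ℕ} (h : Bd M l i e) (h' : Bd M l (i + 1) e) :
    Bd M (a :: l) i e := by
  obtain ⟨c, hc⟩ := h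
  obtain ⟨c', hc'⟩ := h'
  refine ⟨c + c', fun n hn => (length_cons_le M (a ^ n) (powL l n) i).trans
    ((add_le_add (hc n hn) (hc' n hn)).trans ?_)⟩
  rw [← Nat.cast_add, ← add_mul]

theorem Bd.cons_regular (M : Type u) [AddCommGroup M] [Module A M] {x : A} (hx : IsSMulRegular M x) {l : List A}
    {i : ℤ} {e : ℕ} (h : Bd (ModuleCat.of A (Qm M x)) l i e) : Bd (ModuleCat.of A M) (x :: l) i (e + 1) := by
  obtain ⟨c, hc⟩ := h
  refine ⟨c, fun n hn => ?_⟩
  have h1 := length_cons_le_of_regular (ModuleCat.of A M) (ModuleCat.of A (Qm M (x ^ n))) (x ^ n) (hx.pow n)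
    (ModuleCat.ofHom (Submodule.mkQ _)) (Submodule.mkQ_surjective _) (LinearMap.exact_map_mkQ_range _) (powL l n) i
  refine h1.trans ((length_pow_quotient_le M x hx (powL l n) i n hn).trans ?_)
  refine (mul_le_mul_right (hc n hn) _).trans (le_of_eq ?_)
  rw [← Nat.cast_mul, pow_succ, mul_left_comm]
  congr 2
  ring

variable [IsNoetherianRing A]

/-- Reduce to modules killed by `x` and modules on which `x` is regular. -/
theorem Bd.devissage {x : A} {l : List A} {i : ℤ} {e : ℕ} (M : Type u) [AddCommGroup M] [Module A M]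
    [Module.Finite A M]
    (hkill : ∀ (N : Type u) [AddCommGroup N] [Module A N] [Module.Finite A N],
      Module.support A N ⊆ Module.support A M → (∀ v : N, x • v = 0) → Bd (ModuleCat.of A N) l i e)
    (hreg : ∀ (N : Type u) [AddCommGroup N] [Module A N] [Module.Finite A N],
      Module.support A N ⊆ Module.support A M → IsSMulRegular N x → Bd (ModuleCat.of A N) l i e) :
    Bd (ModuleCat.of A M) l i e := by
  have key : ∀ (j : ℕ) (N : Type u) [AddCommGroup N] [Module A N] [Module.Finite A N],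
      Module.support A N ⊆ Module.support A M → (∀ v : N, x ^ j • v = 0) → Bd (ModuleCat.of A N) l i e := by
    intro j
    induction j with
    | zero =>
      intro N _ _ _ hN h
      have : Subsingleton N := subsingleton_of_forall_eq 0 fun v => by simpa using h v
      exact ⟨0, fun n _ => by
        have : Subsingleton (ModuleCat.of A N) := ‹Subsingleton N›
        rw [Module.length_eq_zero_iff.2 (subsingleton_KH_of_subsingleton _ _ i)]
        exact zero_le⟩
    | succ j ih =>
      intro N _ _ _ hN h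
      let S := LinearMap.range (x • LinearMap.id : N →ₗ[A] N)
      refine Bd.ses (ModuleCat.ofHom S.subtype) (ModuleCat.ofHom S.mkQ) S.injective_subtype S.mkQ_surjective
        (LinearMap.exact_subtype_mkQ S) (ih S ((Module.support_subset_of_injective _ S.injective_subtype).trans hN) ?_)
        (hkill _ ((Module.support_subset_of_surjective _ S.mkQ_surjective).trans hN) ?_)
      · rintro ⟨_, v, rfl⟩
        refine Subtype.ext ?_
        show x ^ j • x • v = 0
        rw [← mul_smul, ← pow_succ, h]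
      · intro q
        obtain ⟨v, rfl⟩ := Submodule.Quotient.mk_surjective _ q
        exact (Submodule.Quotient.mk_eq_zero _).2 ⟨v, rfl⟩
  obtain ⟨N, hN⟩ := monotone_stabilizes_iff_noetherian.2 (inferInstance : IsNoetherian A M)
    ⟨fun j : ℕ => LinearMap.ker (x ^ j • LinearMap.id : M →ₗ[A] M), fun a b hab v hv => by
      have hv' : x ^ a • v = 0 := hv
      show x ^ b • v = 0
      rw [show b = (b - a) + a by omega, pow_add, mul_smul, hv', smul_zero]⟩
  let K := LinearMap.ker (x ^ N • LinearMap.id : M →ₗ[A] M)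
  refine Bd.ses (ModuleCat.ofHom K.subtype) (ModuleCat.ofHom K.mkQ) K.injective_subtype K.mkQ_surjective
    (LinearMap.exact_subtype_mkQ K) (key N K (Module.support_subset_of_injective _ K.injective_subtype)
      fun v => Subtype.ext v.2) (hreg _ (Module.support_subset_of_surjective _ K.mkQ_surjective) ?_)
  refine IsSMulRegular.of_right_eq_zero_of_smul fun q hq => ?_
  obtain ⟨v, rfl⟩ := Submodule.Quotient.mk_surjective _ q
  have h1 : x ^ N • x • v = 0 := (Submodule.Quotient.mk_eq_zero K).1 hq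
  rw [← mul_smul, ← pow_succ] at h1
  exact (Submodule.Quotient.mk_eq_zero K).2 ((hN (N + 1) (Nat.le_succ N)).ge h1)

theorem support_quotient_killed {N M : Type u} [AddCommGroup N] [Module A N] [Module.Finite A N] [AddCommGroup M]
    [Module A M] [Module.Finite A M] (h : Module.support A N ⊆ Module.support A M) {x : A} (l : List A)
    (hx : ∀ v : N, x • v = 0) :
    Module.support A (N ⧸ (Ideal.ofList l • (⊤ : Submodule A N))) ⊆
      Module.support A (M ⧸ (Ideal.ofList (x :: l) • (⊤ : Submodule A M))) := by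
  intro p hp
  rw [Module.support_quotient] at hp ⊢
  refine ⟨h hp.1, ?_⟩
  simp only [PrimeSpectrum.mem_zeroLocus, SetLike.coe_subset_coe, Ideal.ofList_cons, sup_le_iff,
    Ideal.span_singleton_le_iff_mem]
  exact ⟨Module.mem_support_iff_of_finite.1 hp.1 (Module.mem_annihilator.2 hx), hp.2⟩

theorem smul_Qm {N : Type u} [AddCommGroup N] [Module A N] (x : A) (q : Qm N x) : x • q = 0 := by
  obtain ⟨v, rfl⟩ := Submodule.Quotient.mk_surjective _ q
  exact (Submodule.Quotient.mk_eq_zero _).2 ⟨v, rfl⟩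

/-- `ℓ(H_p(x^n; M)) = O(n^{k-p})`. -/
theorem bd_pow : ∀ (l : List A) (M : Type u) [AddCommGroup M] [Module A M] [Module.Finite A M],
    IsFiniteLength A (M ⧸ (Ideal.ofList l • (⊤ : Submodule A M))) → ∀ p : ℕ,
      Bd (ModuleCat.of A M) l (-(p : ℤ)) (l.length - p)
  | [], M, _, _, _, hfl, p => by
    have h : IsFiniteLength A (KH (ModuleCat.of A M) [] (-(p : ℤ))) := isFiniteLength_KH _ [] hfl _
    refine ⟨(Module.length A (KH (ModuleCat.of A M) [] (-(p : ℤ)))).toNat, fun n _ => ?_⟩
    rw [List.length_nil, Nat.zero_sub, pow_zero, mul_one]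
    exact (ENat.coe_toNat (Module.length_ne_top_iff.2 h)).ge
  | x :: t, M, _, _, _, hfl, p => by
    refine Bd.devissage (x := x) M (fun N _ _ _ hN hx => ?_) (fun N _ _ _ hN hx => ?_)
    · have hflN := isFiniteLength_of_support_subset (support_quotient_killed hN t hx) hfl
      refine Bd.cons ((bd_pow t N hflN p).mono (by simp; omega)) ?_
      cases p with
      | zero => exact Bd.of_subsingleton _ _ _ _ (Or.inr (by simp))
      | succ p =>
        have := (bd_pow t N hflN p).mono (e' := (x :: t).length - (p + 1)) (by simp)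
        rwa [show -((p + 1 : ℕ) : ℤ) + 1 = -(p : ℤ) by push_cast; ring]
    · have hflQ := isFiniteLength_of_support_subset (support_quotient_killed
        ((Module.support_subset_of_surjective _ (Submodule.mkQ_surjective _)).trans hN) t (smul_Qm (N := N) x)) hfl
      by_cases hp : p ≤ t.length
      · refine Bd.mono ?_ (Bd.cons_regular N hx (bd_pow t _ hflQ p))
        simp
        omega
      · obtain ⟨c, hc⟩ := Bd.cons_regular N hx
          (Bd.of_subsingleton (ModuleCat.of A (Qm N x)) t (-(p : ℤ)) 0 (Or.inl (by omega)))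
        refine ⟨0, fun n hn => ?_⟩
        have h1 := length_cons_le_of_regular (ModuleCat.of A N) (ModuleCat.of A (Qm N (x ^ n))) (x ^ n) (hx.pow n)
          (ModuleCat.ofHom (Submodule.mkQ _)) (Submodule.mkQ_surjective _) (LinearMap.exact_map_mkQ_range _)
          (powL t n) (-(p : ℤ))
        have hs := subsingleton_KH (ModuleCat.of A (Qm N (x ^ n))) (powL t n) (i := -(p : ℤ)) (by
          simp [powL]; omega)
        rw [Module.length_eq_zero_iff.2 hs] at h1
        exact h1.trans zero_le

variable [IsLocalRing A]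

open IsLocalRing

theorem supportDim_mono {N M : Type u} [AddCommGroup N] [Module A N] [AddCommGroup M] [Module A M]
    (h : Module.support A N ⊆ Module.support A M) : Module.supportDim A N ≤ Module.supportDim A M :=
  Order.krullDim_le_of_strictMono (fun p : Module.support A N => (⟨p.1, h p.2⟩ : Module.support A M)) fun _ _ h => h

/-- `ℓ(H_i(x^n; M)) = O(n^{dim M})`. -/
theorem bd_pow_dim : ∀ (l : List A), (∀ a ∈ l, a ∈ maximalIdeal A) →
    ∀ (M : Type u) [AddCommGroup M] [Module A M] [Module.Finite A M],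
    IsFiniteLength A (M ⧸ (Ideal.ofList l • (⊤ : Submodule A M))) → ∀ d : ℕ,
      Module.supportDim A M ≤ (d : WithBot ℕ∞) → ∀ i : ℤ, Bd (ModuleCat.of A M) l i d
  | [], _, M, _, _, _, hfl, d, _, i => by
    have h : IsFiniteLength A (KH (ModuleCat.of A M) [] i) := isFiniteLength_KH _ [] hfl _
    refine ⟨(Module.length A (KH (ModuleCat.of A M) [] i)).toNat, fun n hn => ?_⟩
    refine (ENat.coe_toNat (Module.length_ne_top_iff.2 h)).ge.trans ?_
    exact Nat.cast_le.2 (Nat.le_mul_of_pos_right _ (pow_pos hn d))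
  | x :: t, hl, M, _, _, _, hfl, d, hd, i => by
    have ih := bd_pow_dim t fun a ha => hl a (List.mem_cons_of_mem _ ha)
    refine Bd.devissage (x := x) M (fun N _ _ _ hN hx => ?_) (fun N _ _ _ hN hx => ?_)
    · have hflN := isFiniteLength_of_support_subset (support_quotient_killed hN t hx) hfl
      have hdN := (supportDim_mono hN).trans hd
      exact Bd.cons (ih N hflN d hdN i) (ih N hflN d hdN (i + 1))
    · rcases subsingleton_or_nontrivial N with hN0 | hN0
      · have : Subsingleton (ModuleCat.of A N) := hN0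
        exact ⟨0, fun n _ => by
          rw [Module.length_eq_zero_iff.2 (subsingleton_KH_of_subsingleton _ _ i)]
          exact zero_le⟩
      have hflQ := isFiniteLength_of_support_subset (support_quotient_killed
        ((Module.support_subset_of_surjective _ (Submodule.mkQ_surjective _)).trans hN) t (smul_Qm (N := N) x)) hfl
      have hxm := hl x (List.mem_cons_self ..)
      have h1 : Module.supportDim A (Qm N x) + 1 ≤ (d : WithBot ℕ∞) := by
        rw [Module.supportDim_eq_of_equiv (Submodule.quotEquivOfEq _ _ (range_smul_id (M := N) x))]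
        exact (Module.supportDim_quotSMulTop_succ_eq_supportDim hx hxm).le.trans ((supportDim_mono hN).trans hd)
      obtain ⟨m, hm⟩ : ∃ m : ℕ, d = m + 1 := by
        refine ⟨d - 1, (Nat.succ_pred_eq_of_ne_zero fun hd0 => ?_).symm⟩
        have hne : Nontrivial (Qm N x) := by
          rw [Submodule.Quotient.nontrivial_iff]
          intro htop
          refine not_nontrivial_iff_subsingleton.2 ?_ hN0
          have := Submodule.eq_bot_of_le_smul_of_le_jacobson_bot (Ideal.span {x}) (⊤ : Submodule A N)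
            Module.Finite.fg_top (fun v _ => by
              obtain ⟨w, hw⟩ := (show v ∈ LinearMap.range (x • LinearMap.id : N →ₗ[A] N) from htop ▸ Submodule.mem_top)
              rw [← hw]
              exact Submodule.smul_mem_smul (Ideal.mem_span_singleton_self x) Submodule.mem_top)
            ((Ideal.span_singleton_le_iff_mem _).2 (maximalIdeal_le_jacobson _ hxm))
          exact (Submodule.subsingleton_iff A).1 (subsingleton_of_bot_eq_top this.symm)
        have h0 : (0 : WithBot ℕ∞) ≤ Module.supportDim A (Qm N x) :=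
          Order.krullDim_nonneg_iff.2 (Module.nonempty_support_iff.2 hne).to_subtype
        rw [hd0] at h1
        have := (add_le_add h0 (le_refl (1 : WithBot ℕ∞))).trans h1
        rw [zero_add] at this
        exact absurd this (by simp)
      subst hm
      refine Bd.cons_regular N hx (ih _ hflQ m ?_ i)
      revert h1
      cases Module.supportDim A (Qm N x) using WithBot.recBotCoe with
      | bot => exact fun _ => bot_le
      | coe e =>
        intro h1
        have h2 : e + 1 ≤ ((m + 1 : ℕ) : ℕ∞) := WithBot.coe_le_coe.1 h1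
        push_cast at h2
        exact WithBot.coe_le_coe.2 ((ENat.add_le_add_iff_right ENat.one_ne_top).1 h2)

end Groth.Agent.CAlgH.KoszulEuler

namespace Groth.Agent.CAlgH.KoszulEuler

open Groth.Agent.Misc15.Koszul CohIII

variable {A : Type u} [CommRing A]

/-- The homology in degree `0`. -/
theorem nonempty_KH_zero (M : ModuleCat.{u} A) (l : List A) :
    Nonempty ((M ⧸ (Ideal.ofList l • (⊤ : Submodule A M))) ≃ₗ[A] KH M l 0) := by
  have := subsingleton_X M l (0 + 1) (Or.inr (by simp))
  have hz : ∀ x : (koszulCx M l).X 0, x ∈ relZ (koszulCx M l) (fun _ => ⊥) 0 := fun x =>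
    (Submodule.mem_bot A).2 (Subsingleton.elim _ _)
  let φ : M →ₗ[A] KH M l 0 :=
    (Submodule.mkQ _) ∘ₗ (Groth.Agent.Misc15.Koszul.top M l).symm.toLinearMap.codRestrict _ fun m => hz _
  have hφ : Function.Surjective φ := fun q => by
    obtain ⟨z, rfl⟩ := Submodule.Quotient.mk_surjective _ q
    exact ⟨Groth.Agent.Misc15.Koszul.top M l z.1, congrArg Submodule.Quotient.mk
      (Subtype.ext ((Groth.Agent.Misc15.Koszul.top M l).symm_apply_apply z.1))⟩
  refine ⟨(Submodule.quotEquivOfEq _ _ ?_).trans (φ.quotKerEquivOfSurjective hφ)⟩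
  ext m
  rw [LinearMap.mem_ker, ← range_top_d M l (-1) (by simp)]
  refine Iff.trans ?_ (mk_eq_zero (⟨(Groth.Agent.Misc15.Koszul.top M l).symm m, hz _⟩ :
    relZ (koszulCx M l) (fun _ => ⊥) 0)).symm
  rw [mem_relB (-1) (by simp), LinearMap.mem_range]
  constructor
  · rintro ⟨w, rfl⟩
    exact ⟨0, zero_mem _, w, by simp⟩
  · rintro ⟨g, hg, w, hgw⟩
    rw [(Submodule.mem_bot A).1 hg, zero_add] at hgw
    exact ⟨w, by simp [hgw]⟩

theorem powL_ofFn {k : ℕ} (x : Fin k → A) (n : ℕ) : powL (List.ofFn x) n = List.ofFn fun j => x j ^ n :=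
  List.map_ofFn ..

/-- Lech's limit formula. -/
theorem tendsto_length_powers [IsNoetherianRing A] (M : Type u) [AddCommGroup M] [Module A M] [Module.Finite A M]
    {k : ℕ} (x : Fin k → A) (hfl : IsFiniteLength A (M ⧸ (Ideal.span (Set.range x) • (⊤ : Submodule A M)))) :
    Tendsto (fun n : ℕ =>
        ((Module.length A (M ⧸ (Ideal.span (Set.range fun i => x i ^ n) • (⊤ : Submodule A M)))).toNat : ℝ) / (n : ℝ) ^ k)
      atTop (𝓝 (chi (ModuleCat.of A M) (List.ofFn x) : ℝ)) := by
  classical
  set N : ModuleCat.{u} A := ModuleCat.of A M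
  rcases Nat.eq_zero_or_pos k with rfl | hk
  · have h := tendsto_chi N (List.ofFn x) (by rw [ofList_ofFn]; exact hfl)
    rw [List.length_ofFn] at h
    refine h.congr' ?_
    filter_upwards [eventually_ge_atTop 1] with n hn
    have e : Ideal.ofList (List.ofFn x) ^ n = Ideal.span (Set.range fun i => x i ^ n) := by
      rw [ofList_ofFn, Set.range_eq_empty, Set.range_eq_empty, Ideal.span_empty, ← Ideal.zero_eq_bot,
        zero_pow (by omega)]
    rw [e]
    simp
    rfl
  obtain ⟨k, rfl⟩ : ∃ j, k = j + 1 := ⟨k - 1, by omega⟩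
  have hfl' : IsFiniteLength A (N ⧸ (Ideal.ofList (List.ofFn x) • (⊤ : Submodule A N))) := by
    rw [ofList_ofFn]; exact hfl
  choose c hc using fun p : ℕ => bd_pow (List.ofFn x) M hfl' p
  let S := Finset.Icc (-((k + 1 : ℕ) : ℤ)) (-1)
  let C : ℕ := ∑ i ∈ S, c i.natAbs
  refine tendsto_of_tendsto_of_dist (f₁ := fun _ => (chi N (List.ofFn x) : ℝ)) tendsto_const_nhds ?_
  refine squeeze_zero' (Eventually.of_forall fun n => dist_nonneg) ?_ (tendsto_const_div_atTop_nhds_zero_nat (C : ℝ))
  filter_upwards [eventually_ge_atTop 1] with n hn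
  have hn0 : (0 : ℝ) < n := by exact_mod_cast hn
  obtain ⟨hfln, hchi⟩ := chi_pow_ofFn N (k + 1) [] x (fun _ => n) (by rw [List.nil_append]; exact hfl')
  rw [List.nil_append, List.nil_append] at hchi
  rw [List.nil_append] at hfln
  rw [Finset.prod_const, Finset.card_fin, ← powL_ofFn x n] at hchi
  let f : ℤ → ℤ := fun i => sgn i * len A (KH N (powL (List.ofFn x) n) i)
  have hsum : chi N (powL (List.ofFn x) n) = f 0 + ∑ i ∈ S, f i := by
    rw [chi, chiFam, finsum_eq_sum_of_support_subset _ (s := insert (0 : ℤ) S) fun i hi => ?_,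
      Finset.sum_insert (by simp [S])]
    by_contra h
    have h' : i < -((k + 1 : ℕ) : ℤ) ∨ 0 < i := by
      simp only [Finset.coe_insert, Set.mem_insert_iff, Finset.mem_coe, S, Finset.mem_Icc] at h
      omega
    have := subsingleton_X N (powL (List.ofFn x) n) i (by simpa [powL] using h')
    have hs : Subsingleton (KH N (powL (List.ofFn x) n) i) := subsingleton_HR
    exact hi (by simp only; rw [len_of_subsingleton, mul_zero])
  have hf0 : f 0 =
      ((Module.length A (M ⧸ (Ideal.span (Set.range fun i => x i ^ n) • (⊤ : Submodule A M)))).toNat : ℤ) := by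
    simp only [f]
    rw [sgn_zero, one_mul, ← len_congr (nonempty_KH_zero N _).some, powL_ofFn, ofList_ofFn]
    rfl
  have hbound : |∑ i ∈ S, f i| ≤ (C : ℤ) * (n : ℤ) ^ k := by
    refine (Finset.abs_sum_le_sum_abs _ _).trans ?_
    rw [Nat.cast_sum, Finset.sum_mul]
    refine Finset.sum_le_sum fun i hi => ?_
    have hi' := Finset.mem_Icc.1 hi
    have hs : |sgn i| = 1 := by rcases Int.units_eq_one_or i.negOnePow with h | h <;> simp [sgn, h]
    rw [abs_mul, hs, one_mul, abs_of_nonneg (len_nonneg _)]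
    have h1 := hc i.natAbs n hn
    rw [show -((i.natAbs : ℕ) : ℤ) = i by omega, List.length_ofFn] at h1
    have h2 := ENat.toNat_le_toNat h1 (ENat.coe_ne_top _)
    rw [ENat.toNat_coe] at h2
    show ((Module.length A (KH N (powL (List.ofFn x) n) i)).toNat : ℤ) ≤ _
    exact_mod_cast h2.trans (Nat.mul_le_mul_left _ (Nat.pow_le_pow_right hn (by omega)))
  have e : (n : ℝ) ^ (k + 1) * (chi N (List.ofFn x) : ℝ) -
      ((Module.length A (M ⧸ (Ideal.span (Set.range fun i => x i ^ n) • (⊤ : Submodule A M)))).toNat : ℝ) =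
      ((∑ i ∈ S, f i : ℤ) : ℝ) := by
    have := hchi.symm.trans hsum
    rw [hf0] at this
    have := congrArg (fun z : ℤ => (z : ℝ)) this
    push_cast at this ⊢
    linarith
  rw [Real.dist_eq, show (chi N (List.ofFn x) : ℝ) -
      ((Module.length A (M ⧸ (Ideal.span (Set.range fun i => x i ^ n) • (⊤ : Submodule A M)))).toNat : ℝ) / (n : ℝ) ^ (k + 1) =
      ((∑ i ∈ S, f i : ℤ) : ℝ) / (n : ℝ) ^ (k + 1) by rw [← e]; field_simp, abs_div, abs_of_pos (pow_pos hn0 _),
    div_le_div_iff₀ (pow_pos hn0 _) hn0]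
  have hb : |((∑ i ∈ S, f i : ℤ) : ℝ)| ≤ (C : ℝ) * (n : ℝ) ^ k := by exact_mod_cast hbound
  rw [pow_succ, ← mul_assoc]
  exact mul_le_mul_of_nonneg_right hb hn0.le

end Groth.Agent.CAlgH.KoszulEuler
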