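import Groth.Agent.CAlgH.KoszulEuler.RelHom
import Groth.Agent.EGA41Lib.SemiLocalSop
import Groth.Prelude.Def_DRing2
import Groth.Prelude.Def_Koszul
import Mathlib.Algebra.Homology.HomologySequence
import Mathlib.Algebra.Homology.HomologicalComplexAbelian

/-!
# Koszul homology of modules: finiteness, Euler characteristic, multiplicativity, additivity
-/

universe u

set_option autoImplicit false
set_option backward.isDefEq.respectTransparency false
set_option backward.isDefEq.respectTransparency.types false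

open CategoryTheory CategoryTheory.Limits CochainComplex MonoidalCategory
open Groth.Agent.Misc15.Koszul Groth.Agent.CommAlg6
open CohIII (koszulCx)

namespace Groth.Agent.CAlgH.KoszulEuler

variable {A : Type u} [CommRing A]

/-- The Koszul homology in cohomological degree `i`. -/
abbrev KH (M : ModuleCat.{u} A) (l : List A) (i : ℤ) : Type u := HR (koszulCx M l) (fun _ => ⊥) i

/-- The Euler characteristic of the Koszul complex. -/
noncomputable def chi (M : ModuleCat.{u} A) (l : List A) : ℤ := chiFam (A := A) (KH M l)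

theorem subsingleton_KH (M : ModuleCat.{u} A) (l : List A) {i : ℤ} (hi : l.length < i.natAbs) :
    Subsingleton (KH M l i) :=
  have := subsingleton_X M l i (by omega)
  subsingleton_HR

theorem finite_X (M : ModuleCat.{u} A) [Module.Finite A M] :
    ∀ (l : List A) (i : ℤ), Module.Finite A ((koszulCx M l).X i)
  | [], i => by
    by_cases hi : i = 0
    · subst hi
      exact Module.Finite.equiv (bot0 M).symm
    · have := subsingleton_X M [] i (by simp; omega)
      infer_instance
  | a :: l, i => by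
    have := finite_X M l (i + 1)
    have := finite_X M l i
    exact Module.Finite.of_surjective (LinearMap.coprod
      ((mappingCone.inl (a • 𝟙 (koszulCx M l))).v (i + 1) i (by omega)).hom
      ((mappingCone.inr (a • 𝟙 (koszulCx M l))).f i).hom) fun x =>
        ⟨(cfst _ (i + 1) rfl x, csnd _ x), cone_ext _ (i + 1) rfl (cfst_cmk _ _ rfl _ _) (csnd_cmk _ _ rfl _ _)⟩

theorem smul_X_eq_zero (M : ModuleCat.{u} A) {b : A} (hb : ∀ m : M, b • m = 0) :
    ∀ (l : List A) (i : ℤ) (x : (koszulCx M l).X i), b • x = 0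
  | [], i, x => by
    by_cases hi : i = 0
    · subst hi
      exact (bot0 M).injective (by rw [map_smul, hb, map_zero])
    · have := subsingleton_X M [] i (by simp; omega)
      exact Subsingleton.elim _ _
  | a :: l, i, x => cone_ext _ (i + 1) rfl
      (by rw [cfst_smul, smul_X_eq_zero M hb l, cfst_zero]) (by rw [csnd_smul, smul_X_eq_zero M hb l, csnd_zero])

theorem isFiniteLength_of_support_subset [IsNoetherianRing A] {M N : Type u} [AddCommGroup M] [Module A M]
    [Module.Finite A M] [AddCommGroup N] [Module A N] [Module.Finite A N]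
    (h : Module.support A N ⊆ Module.support A M) (hM : IsFiniteLength A M) : IsFiniteLength A N := by
  rw [EGA41Lib.isFiniteLength_iff_supportDim_le_zero] at hM ⊢
  exact (Order.krullDim_le_of_strictMono (fun p : Module.support A N => (⟨p.1, h p.2⟩ : Module.support A M))
    fun _ _ hlt => hlt).trans hM

theorem isFiniteLength_KH [IsNoetherianRing A] (M : ModuleCat.{u} A) [Module.Finite A M] (l : List A)
    (h : IsFiniteLength A (M ⧸ (Ideal.ofList l • (⊤ : Submodule A M)))) (i : ℤ) : IsFiniteLength A (KH M l i) := by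
  have := finite_X M l i
  refine isFiniteLength_of_support_subset (fun p hp => ?_) h
  rw [Module.support_quotient]
  rw [Module.mem_support_iff_of_finite] at hp
  refine ⟨Module.mem_support_iff_of_finite.2 fun b hb => hp ?_, fun b hb => hp ?_⟩
  · rw [Module.mem_annihilator] at hb ⊢
    intro q
    obtain ⟨z, rfl⟩ := Submodule.Quotient.mk_surjective _ q
    rw [← Submodule.Quotient.mk_smul, mk_eq_zero, Submodule.coe_smul, smul_X_eq_zero M hb l]
    exact zero_mem _
  · rw [Module.mem_annihilator]
    intro q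
    obtain ⟨z, rfl⟩ := Submodule.Quotient.mk_surjective _ q
    obtain ⟨η, hη⟩ := nullHtpy_of_mem_span M l hb
    rw [← Submodule.Quotient.mk_smul, mk_eq_zero, Submodule.coe_smul]
    refine (mem_relB (i - 1) (sub_add_cancel i 1)).2 ⟨0, zero_mem _, η i (i - 1) (sub_add_cancel i 1) z.1, ?_⟩
    have hz : ((koszulCx M l).d i (i + 1)).hom z.1 = 0 := by simpa [relZ] using z.2
    rw [← hη (i - 1) i (i + 1) (sub_add_cancel i 1) rfl z.1, hz, map_zero, add_zero, zero_add]

theorem coneG_bot {K : CochainComplex (ModuleCat.{u} A) ℤ} (a : A) :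
    coneG a (fun i : ℤ => (⊥ : Submodule A (K.X i))) (fun i => ⊥) = fun i => ⊥ := by
  funext i
  refine eq_bot_iff.2 fun x hx => ?_
  rw [Submodule.mem_bot]
  exact cone_ext _ (i + 1) rfl ((Submodule.mem_bot A).1 hx.1 |>.trans (cfst_zero _ _ _).symm)
    ((Submodule.mem_bot A).1 hx.2 |>.trans (csnd_zero _).symm)

/-- Multiplication by `a` on the Koszul homology. -/
noncomputable def mulKH (M : ModuleCat.{u} A) (l : List A) (a : A) (i : ℤ) : KH M l i →ₗ[A] KH M l i :=
  a • LinearMap.id

theorem coneMul_eq (M : ModuleCat.{u} A) (l : List A) (a : A)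
    (hG : ∀ i : ℤ, ∀ x ∈ (⊥ : Submodule A ((koszulCx M l).X i)), a • x ∈ (⊥ : Submodule A ((koszulCx M l).X i))) (i : ℤ) :
    coneMul a (fun _ => ⊥) (fun _ => ⊥) hG i = mulKH M l a i :=
  LinearMap.ext fun q => by
    obtain ⟨z, rfl⟩ := Submodule.Quotient.mk_surjective _ q
    rfl

theorem finDefect_and_chi_cons (M : ModuleCat.{u} A) (l : List A) (a : A)
    (h : ∀ i, IsFiniteLength A (KH M (a :: l) i)) :
    (∀ i, FinDefect (mulKH M l a i)) ∧
      chi M (a :: l) = ∑ᶠ i, sgn i * defect (mulKH M l a i) := by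
  have hG : ∀ i : ℤ, ∀ x ∈ (⊥ : Submodule A ((koszulCx M l).X i)), a • x ∈ (⊥ : Submodule A ((koszulCx M l).X i)) :=
    fun i x hx => Submodule.smul_mem _ a hx
  let V : ℤ → Type u := HR (mappingCone (a • 𝟙 (koszulCx M l))) (coneG a (fun _ => ⊥) (fun _ => ⊥))
  have eV : ∀ i, Nonempty (V i ≃ₗ[A] KH M (a :: l) i) := fun i => by
    show Nonempty (HR _ (coneG a (fun _ => ⊥) (fun _ => ⊥)) i ≃ₗ[A] _)
    rw [coneG_bot]
    exact ⟨LinearEquiv.refl _ _⟩
  have hV : ∀ i, IsFiniteLength A (V i) := fun i => (eV i).some.symm.isFiniteLength (h i)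
  let m : ∀ i, KH M l i →ₗ[A] KH M l i := mulKH M l a
  let α : ∀ i, (KH M l i ⧸ LinearMap.range (m i)) →ₗ[A] V i := fun i =>
    Submodule.liftQ _ (coneIn a (fun _ => ⊥) (fun _ => ⊥) i) (by
      rintro _ ⟨x, rfl⟩
      have := (exact_mul_in a (fun _ => ⊥) (fun _ => ⊥) hG i).apply_apply_eq_zero x
      rw [coneMul_eq] at this
      exact this)
  have hα : ∀ i, Function.Injective (α i) := fun i => by
    rw [← LinearMap.ker_eq_bot]
    refine Submodule.ker_liftQ_eq_bot _ _ _ fun x hx => ?_
    obtain ⟨y, hy⟩ := (exact_mul_in a (fun _ => ⊥) (fun _ => ⊥) hG i x).1 hx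
    exact ⟨y, by rw [← hy, coneMul_eq]⟩
  let β : ∀ i, V i →ₗ[A] LinearMap.ker (m (i + 1)) := fun i =>
    (coneOut a (fun _ => ⊥) (fun _ => ⊥) i).codRestrict _ fun x => by
      have := (exact_out_mul a (fun _ => ⊥) (fun _ => ⊥) hG i).apply_apply_eq_zero x
      rw [coneMul_eq] at this
      exact this
  have hβ : ∀ i, Function.Surjective (β i) := fun i z => by
    obtain ⟨y, hy⟩ := (exact_out_mul a (fun _ => ⊥) (fun _ => ⊥) hG i z.1).1 (by rw [coneMul_eq]; exact z.2)
    exact ⟨y, Subtype.ext hy⟩
  have hαβ : ∀ i, Function.Exact (α i) (β i) := fun i x => by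
    constructor
    · intro hx
      obtain ⟨y, hy⟩ := (exact_in_out a (fun _ => ⊥) (fun _ => ⊥) hG i x).1 (congrArg Subtype.val hx)
      exact ⟨Submodule.Quotient.mk y, hy⟩
    · rintro ⟨q, rfl⟩
      obtain ⟨y, rfl⟩ := Submodule.Quotient.mk_surjective _ q
      exact Subtype.ext ((exact_in_out a (fun _ => ⊥) (fun _ => ⊥) hG i).apply_apply_eq_zero y)
  have hU : ∀ i, IsFiniteLength A (KH M l i ⧸ LinearMap.range (m i)) := fun i => (hV i).of_injective (hα i)
  have hW : ∀ i, IsFiniteLength A (LinearMap.ker (m (i + 1))) := fun i => (hV i).of_surjective (hβ i)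
  have hsU : ∀ i : ℤ, l.length + 1 < i.natAbs → Subsingleton (KH M l i ⧸ LinearMap.range (m i)) := fun i hi =>
    have := subsingleton_KH M l (i := i) (by omega)
    (Submodule.mkQ_surjective _).subsingleton
  have hsW : ∀ i : ℤ, l.length + 1 < i.natAbs → Subsingleton (LinearMap.ker (m (i + 1))) := fun i hi =>
    have := subsingleton_KH M l (i := i + 1) (by omega)
    inferInstance
  have hsK : ∀ i : ℤ, l.length + 1 < i.natAbs → Subsingleton (LinearMap.ker (m i)) := fun i hi =>
    have := subsingleton_KH M l (i := i) (by omega)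
    inferInstance
  obtain ⟨-, he⟩ := les α β (fun i => (0 : _ →ₗ[A] KH M l (i + 1) ⧸ LinearMap.range (m (i + 1)))) hαβ
    (fun i => by
      intro x
      exact iff_of_true rfl (hβ i x))
    (fun i => by
      rw [LinearMap.exact_zero_iff_injective]
      exact hα (i + 1)) hU hW (l.length + 1) hsU hsW
  have hfd : ∀ i, FinDefect (mulKH M l a i) := fun i => ⟨by
    have := hW (i - 1)
    rwa [sub_add_cancel] at this, hU i⟩
  refine ⟨hfd, ?_⟩
  rw [chi, ← chiFam_congr eV, he, chiFam_shift (A := A) (fun i => LinearMap.ker (m i))]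
  rw [chiFam, chiFam, ← sub_eq_add_neg, ← finsum_sub_distrib (finite_support _ hsU sgn) (finite_support _ hsK sgn)]
  exact finsum_congr fun i => by rw [defect, mul_sub]

theorem defect_comp {N : Type u} [AddCommGroup N] [Module A N] (f g : N →ₗ[A] N) (hf : FinDefect f)
    (hg : FinDefect g) : FinDefect (f ∘ₗ g) ∧ defect (f ∘ₗ g) = defect f + defect g := by
  let k1 : LinearMap.ker g →ₗ[A] LinearMap.ker (f ∘ₗ g) := Submodule.inclusion (LinearMap.ker_le_ker_comp g f)
  let k2 : LinearMap.ker (f ∘ₗ g) →ₗ[A] LinearMap.ker f := g.restrict fun x hx => hx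
  let δ : LinearMap.ker f →ₗ[A] N ⧸ LinearMap.range g := (LinearMap.range g).mkQ ∘ₗ (LinearMap.ker f).subtype
  let c1 : (N ⧸ LinearMap.range g) →ₗ[A] N ⧸ LinearMap.range (f ∘ₗ g) := Submodule.mapQ _ _ f (by
    rintro _ ⟨x, rfl⟩
    exact ⟨x, rfl⟩)
  let c2 : (N ⧸ LinearMap.range (f ∘ₗ g)) →ₗ[A] N ⧸ LinearMap.range f := Submodule.factor (LinearMap.range_comp_le_range g f)
  have e2 : Function.Exact k1 k2 := fun x => by
    constructor
    · intro hx
      exact ⟨⟨x.1, congrArg Subtype.val hx⟩, rfl⟩
    · rintro ⟨y, rfl⟩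
      exact Subtype.ext y.2
  have e3 : Function.Exact k2 δ := fun x => by
    constructor
    · intro hx
      obtain ⟨y, hy⟩ := (Submodule.Quotient.mk_eq_zero _).1 hx
      exact ⟨⟨y, show f (g y) = 0 by rw [hy]; exact x.2⟩, Subtype.ext hy⟩
    · rintro ⟨y, rfl⟩
      exact (Submodule.Quotient.mk_eq_zero _).2 ⟨y.1, rfl⟩
  have e4 : Function.Exact δ c1 := fun q => by
    obtain ⟨x, rfl⟩ := Submodule.Quotient.mk_surjective _ q
    constructor
    · intro hx
      obtain ⟨y, hy⟩ := (Submodule.Quotient.mk_eq_zero _).1 hx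
      refine ⟨⟨x - g y, show f (x - g y) = 0 by rw [map_sub, ← hy]; exact sub_self _⟩, ?_⟩
      exact (Submodule.Quotient.eq _).2 ⟨-y, by simp⟩
    · rintro ⟨y, hy⟩
      rw [← hy]
      exact (Submodule.Quotient.mk_eq_zero _).2 ⟨0, by rw [map_zero]; exact y.2.symm⟩
  have e5 : Function.Exact c1 c2 := fun q => by
    obtain ⟨x, rfl⟩ := Submodule.Quotient.mk_surjective _ q
    constructor
    · intro hx
      obtain ⟨y, hy⟩ := (Submodule.Quotient.mk_eq_zero _).1 hx
      exact ⟨Submodule.Quotient.mk y, congrArg Submodule.Quotient.mk hy⟩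
    · rintro ⟨p, hp⟩
      obtain ⟨y, rfl⟩ := Submodule.Quotient.mk_surjective _ p
      rw [← hp]
      exact (Submodule.Quotient.mk_eq_zero _).2 ⟨y, rfl⟩
  have fk : IsFiniteLength A (LinearMap.ker (f ∘ₗ g)) := isFiniteLength_of_exact k1 k2 e2 hg.1 hf.1
  have fc : IsFiniteLength A (N ⧸ LinearMap.range (f ∘ₗ g)) := isFiniteLength_of_exact c1 c2 e5 hg.2 hf.2
  refine ⟨⟨fk, fc⟩, ?_⟩
  have a1 := len_range_of_injective k1 (Submodule.inclusion_injective _)
  have a2 := len_eq_range_add_range k1 k2 e2 fk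
  have a3 := len_eq_range_add_range k2 δ e3 hf.1
  have a4 := len_eq_range_add_range δ c1 e4 hg.2
  have a5 := len_eq_range_add_range c1 c2 e5 fc
  have a6 := len_range_of_surjective c2 (Submodule.factor_surjective _)
  simp only [defect]
  linarith

/-- The Euler characteristic is additive in the first member of the sequence under products. -/
theorem chi_mul_head (M : ModuleCat.{u} A) (l : List A) (x y : A) (hx : ∀ i, IsFiniteLength A (KH M (x :: l) i))
    (hy : ∀ i, IsFiniteLength A (KH M (y :: l) i)) (hxy : ∀ i, IsFiniteLength A (KH M ((x * y) :: l) i)) :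
    chi M ((x * y) :: l) = chi M (x :: l) + chi M (y :: l) := by
  obtain ⟨fx, ex⟩ := finDefect_and_chi_cons M l x hx
  obtain ⟨fy, ey⟩ := finDefect_and_chi_cons M l y hy
  obtain ⟨-, exy⟩ := finDefect_and_chi_cons M l (x * y) hxy
  have hs : ∀ c : A, (Function.support fun i => sgn i * defect (mulKH M l c i)).Finite := fun c => by
    refine (Set.finite_Icc (-((l.length : ℤ) + 1)) (l.length + 1)).subset fun i hi => ?_
    by_contra h
    have := subsingleton_KH M l (i := i) (by simp only [Set.mem_Icc, not_and_or, not_le] at h; omega)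
    have : Subsingleton (KH M l i ⧸ LinearMap.range (mulKH M l c i)) := (Submodule.mkQ_surjective _).subsingleton
    exact hi (by simp [defect, len_of_subsingleton])
  rw [ex, ey, exy, ← finsum_add_distrib (hs x) (hs y)]
  refine finsum_congr fun i => ?_
  rw [show mulKH M l (x * y) i = mulKH M l x i ∘ₗ mulKH M l y i from LinearMap.ext fun q => mul_smul x y q,
    (defect_comp _ _ (fx i) (fy i)).2, mul_add]

section SES

variable {M N P : ModuleCat.{u} A} (g : M ⟶ N) (h : N ⟶ P) (hg : Function.Injective g.hom)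
  (hh : Function.Surjective h.hom) (hgh : Function.Exact g.hom h.hom)

include hg hh hgh in
theorem exists_les (l : List A) : ∃ (a : ∀ i, KH M l i →ₗ[A] KH N l i) (b : ∀ i, KH N l i →ₗ[A] KH P l i)
    (δ : ∀ i, KH P l i →ₗ[A] KH M l (i + 1)), (∀ i, Function.Exact (a i) (b i)) ∧
      (∀ i, Function.Exact (b i) (δ i)) ∧ (∀ i, Function.Exact (δ i) (a (i + 1))) := by
  let S : ShortComplex (CochainComplex (ModuleCat.{u} A) ℤ) :=
    ShortComplex.mk (kMap g l) (kMap h l) (by
      ext i x
      exact (kMap_exact g h hgh l i).apply_apply_eq_zero x)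
  have hS : S.ShortExact := HomologicalComplex.shortExact_of_degreewise_shortExact S fun i =>
    { exact := (ShortComplex.moduleCat_exact_iff _).2 fun x hx => (kMap_exact g h hgh l i x).1 hx
      mono_f := (ModuleCat.mono_iff_injective _).2 (kMap_injective g hg l i)
      epi_g := (ModuleCat.epi_iff_surjective _).2 (kMap_surjective h hh l i) }
  let eM := fun i => (nonempty_homology_equiv (koszulCx M l) i).some
  let eN := fun i => (nonempty_homology_equiv (koszulCx N l) i).some
  let eP := fun i => (nonempty_homology_equiv (koszulCx P l) i).some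
  refine ⟨fun i => (eN i).toLinearMap ∘ₗ (HomologicalComplex.homologyMap S.f i).hom ∘ₗ (eM i).symm.toLinearMap,
    fun i => (eP i).toLinearMap ∘ₗ (HomologicalComplex.homologyMap S.g i).hom ∘ₗ (eN i).symm.toLinearMap,
    fun i => (eM (i + 1)).toLinearMap ∘ₗ (hS.δ i (i + 1) rfl).hom ∘ₗ (eP i).symm.toLinearMap,
    fun i => ?_, fun i => ?_, fun i => ?_⟩
  · exact (Function.Exact.iff_of_ladder_linearEquiv (e₁ := eM i) (e₂ := eN i) (e₃ := eP i)
      (LinearMap.ext fun x =>
        congrArg _ (congrArg _ ((eM i).symm_apply_apply x))) (LinearMap.ext fun x =>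
        congrArg _ (congrArg _ ((eN i).symm_apply_apply x)))).2
      ((ShortComplex.ShortExact.moduleCat_exact_iff_function_exact _).1 (hS.homology_exact₂ i))
  · exact (Function.Exact.iff_of_ladder_linearEquiv (e₁ := eN i) (e₂ := eP i) (e₃ := eM (i + 1))
      (LinearMap.ext fun x =>
        congrArg _ (congrArg _ ((eN i).symm_apply_apply x))) (LinearMap.ext fun x =>
        congrArg (fun y => eM (i + 1) ((hS.δ i (i + 1) rfl).hom y)) ((eP i).symm_apply_apply x))).2
      ((ShortComplex.ShortExact.moduleCat_exact_iff_function_exact _).1 (hS.homology_exact₃ i (i + 1) rfl))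
  · exact (Function.Exact.iff_of_ladder_linearEquiv (e₁ := eP i) (e₂ := eM (i + 1)) (e₃ := eN (i + 1))
      (LinearMap.ext fun x =>
        congrArg (fun y => eM (i + 1) ((hS.δ i (i + 1) rfl).hom y)) ((eP i).symm_apply_apply x)) (LinearMap.ext fun x =>
        congrArg _ (congrArg _ ((eM (i + 1)).symm_apply_apply x)))).2
      ((ShortComplex.ShortExact.moduleCat_exact_iff_function_exact _).1 (hS.homology_exact₁ i (i + 1) rfl))

include hg hh hgh in
theorem chi_additive (l : List A) (hM : ∀ i, IsFiniteLength A (KH M l i)) (hP : ∀ i, IsFiniteLength A (KH P l i)) :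
    chi N l = chi M l + chi P l := by
  obtain ⟨a, b, δ, h1, h2, h3⟩ := exists_les g h hg hh hgh l
  exact (les a b δ h1 h2 h3 hM hP l.length (fun i => subsingleton_KH M l) fun i => subsingleton_KH P l).2

end SES

/-- Cones of multiplications of isomorphic complexes. -/
noncomputable def coneCongr {C D : CochainComplex (ModuleCat.{u} A) ℤ} (e : C ≅ D) (a : A) :
    mappingCone (a • 𝟙 C) ≅ mappingCone (a • 𝟙 D) where
  hom := mappingCone.map _ _ e.hom e.hom (by simp [Linear.smul_comp, Linear.comp_smul])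
  inv := mappingCone.map _ _ e.inv e.inv (by simp [Linear.smul_comp, Linear.comp_smul])
  hom_inv_id := by rw [← mappingCone.map_comp]; simp [mappingCone.map_id]
  inv_hom_id := by rw [← mappingCone.map_comp]; simp [mappingCone.map_id]

theorem nonempty_tensor_iso (M : ModuleCat.{u} A) :
    ∀ l : List A, Nonempty (DRing.tensorCx (_root_.Koszul.koszul A l) M ≅ koszulCx M l)
  | [] => ⟨(HomologicalComplex.singleMapHomologicalComplex (tensorRight M) (ComplexShape.up ℤ) 0).app
      (ModuleCat.of A A) ≪≫ (HomologicalComplex.single (ModuleCat.{u} A) (ComplexShape.up ℤ) 0).mapIso (λ_ M)⟩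
  | a :: l => by
    obtain ⟨e⟩ := nonempty_tensor_iso M l
    let F := tensorRight M
    have hF : (F.mapHomologicalComplex (ComplexShape.up ℤ)).map (a • 𝟙 (_root_.Koszul.koszul A l)) =
        a • 𝟙 ((F.mapHomologicalComplex (ComplexShape.up ℤ)).obj (_root_.Koszul.koszul A l)) := by
      ext i : 1
      simp [F]
    refine ⟨mappingCone.mapHomologicalComplexIso (a • 𝟙 (_root_.Koszul.koszul A l)) F ≪≫ ?_⟩
    rw [hF]
    exact coneCongr e a

theorem length_tensor_homology (M : ModuleCat.{u} A) (l : List A) (i : ℤ) :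
    Module.length A ((DRing.tensorCx (_root_.Koszul.koszul A l) M).homology i) = Module.length A (KH M l i) :=
  ((HomologicalComplex.homologyMapIso (nonempty_tensor_iso M l).some i).toLinearEquiv.trans
    (nonempty_homology_equiv (koszulCx M l) i).some).length_eq

theorem finsum_tensor_eq_chi (M : ModuleCat.{u} A) (l : List A) :
    (∑ᶠ i : ℤ, ((i.negOnePow : ℤˣ) : ℤ) *
      ((Module.length A ((DRing.tensorCx (_root_.Koszul.koszul A l) M).homology i)).toNat : ℤ)) = chi M l :=
  finsum_congr fun i => by rw [length_tensor_homology]; rfl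

theorem ofList_eq_span (l : List A) (a : A) :
    Ideal.ofList (a :: l) = Ideal.span ({a} ∪ {b : A | b ∈ l}) := by
  refine congrArg Ideal.span (Set.ext fun x => ?_)
  simp

theorem isFiniteLength_quotient_mul [IsNoetherianRing A] (M : Type u) [AddCommGroup M] [Module A M] [Module.Finite A M]
    (l : List A) (x y : A) (hx : IsFiniteLength A (M ⧸ (Ideal.ofList (x :: l) • (⊤ : Submodule A M))))
    (hy : IsFiniteLength A (M ⧸ (Ideal.ofList (y :: l) • (⊤ : Submodule A M)))) :
    IsFiniteLength A (M ⧸ (Ideal.ofList ((x * y) :: l) • (⊤ : Submodule A M))) := by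
  let P := M ⧸ (Ideal.ofList (x :: l) • (⊤ : Submodule A M))
  let Q := M ⧸ (Ideal.ofList (y :: l) • (⊤ : Submodule A M))
  have hPQ : IsFiniteLength A (P × Q) :=
    isFiniteLength_of_exact (LinearMap.inl A P Q) (LinearMap.snd A P Q) Function.Exact.inl_snd hx hy
  refine isFiniteLength_of_support_subset (M := P × Q) (fun p hp => ?_) hPQ
  rw [Module.support_quotient] at hp
  obtain ⟨h1, h2⟩ := hp
  simp only [PrimeSpectrum.mem_zeroLocus, SetLike.coe_subset_coe, Ideal.ofList_cons, sup_le_iff,
    Ideal.span_singleton_le_iff_mem] at h2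
  rcases p.2.mem_or_mem h2.1 with h | h
  · refine Module.support_subset_of_injective (LinearMap.inl A P Q) LinearMap.inl_injective ?_
    rw [Module.support_quotient]
    exact ⟨h1, by simp [PrimeSpectrum.mem_zeroLocus, Ideal.ofList_cons, h, h2.2]⟩
  · refine Module.support_subset_of_injective (LinearMap.inr A P Q) LinearMap.inr_injective ?_
    rw [Module.support_quotient]
    exact ⟨h1, by simp [PrimeSpectrum.mem_zeroLocus, Ideal.ofList_cons, h, h2.2]⟩

theorem chi_mul_head' [IsNoetherianRing A] (M : ModuleCat.{u} A) [Module.Finite A M] (l : List A) (x y : A)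
    (hx : IsFiniteLength A (M ⧸ (Ideal.ofList (x :: l) • (⊤ : Submodule A M))))
    (hy : IsFiniteLength A (M ⧸ (Ideal.ofList (y :: l) • (⊤ : Submodule A M)))) :
    chi M ((x * y) :: l) = chi M (x :: l) + chi M (y :: l) :=
  chi_mul_head M l x y (isFiniteLength_KH M _ hx) (isFiniteLength_KH M _ hy)
    (isFiniteLength_KH M _ (isFiniteLength_quotient_mul M l x y hx hy))

end Groth.Agent.CAlgH.KoszulEuler
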