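import Groth.Agent.CommAlg6.LengthDefect
import Mathlib.Algebra.BigOperators.Finprod
import Mathlib.Algebra.Ring.NegOnePow
import Mathlib.Data.Int.Interval

/-!
# Euler characteristics of long exact sequences of finite length modules
-/

universe u

set_option autoImplicit false

open Groth.Agent.CommAlg6 Function

namespace Groth.Agent.CAlgH.KoszulEuler

variable {A : Type u} [CommRing A]

/-- The sign `(-1)^i`. -/
def sgn (i : ℤ) : ℤ := ((i.negOnePow : ℤˣ) : ℤ)

theorem sgn_succ (i : ℤ) : sgn (i + 1) = -sgn i := by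
  rw [sgn, sgn, Int.negOnePow_succ, Units.val_neg]

theorem sgn_zero : sgn 0 = 1 := by rw [sgn, Int.negOnePow_zero, Units.val_one]

theorem sgn_neg_natCast (p : ℕ) : sgn (-(p : ℤ)) = (-1) ^ p := by
  induction p with
  | zero => rw [Nat.cast_zero, neg_zero, sgn_zero, pow_zero]
  | succ p ih =>
    have h := sgn_succ (-((p + 1 : ℕ) : ℤ))
    rw [show -((p + 1 : ℕ) : ℤ) + 1 = -(p : ℤ) by omega, ih] at h
    rw [pow_succ, h, mul_neg, mul_one, neg_neg]

theorem sgn_mul_self (i : ℤ) : sgn i * sgn i = 1 := by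
  rcases Int.units_eq_one_or i.negOnePow with h | h <;> simp [sgn, h]

theorem len_of_subsingleton (N : Type*) [AddCommGroup N] [Module A N] [Subsingleton N] : len A N = 0 := by
  rw [len, Module.length_eq_zero_iff.2 inferInstance]
  rfl

theorem len_nonneg (N : Type*) [AddCommGroup N] [Module A N] : 0 ≤ len A N := Nat.cast_nonneg _

/-- Alternating sum of the lengths of a family of modules. -/
noncomputable def chiFam (U : ℤ → Type u) [∀ i, AddCommGroup (U i)] [∀ i, Module A (U i)] : ℤ :=
  ∑ᶠ i, sgn i * len A (U i)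

theorem chiFam_congr {U V : ℤ → Type u} [∀ i, AddCommGroup (U i)] [∀ i, Module A (U i)] [∀ i, AddCommGroup (V i)]
    [∀ i, Module A (V i)] (e : ∀ i, Nonempty (U i ≃ₗ[A] V i)) : chiFam (A := A) U = chiFam (A := A) V :=
  finsum_congr fun i => by rw [len_congr (e i).some]

theorem finite_support {U : ℤ → Type u} [∀ i, AddCommGroup (U i)] [∀ i, Module A (U i)] (r : ℕ)
    (hU : ∀ i : ℤ, r < i.natAbs → Subsingleton (U i)) (g : ℤ → ℤ) :
    (support fun i => g i * len A (U i)).Finite := by
  refine (Set.finite_Icc (-(r : ℤ)) r).subset fun i hi => ?_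
  by_contra h
  have := hU i (by simp only [Set.mem_Icc, not_and_or, not_le] at h; omega)
  exact hi (by simp [len_of_subsingleton])

theorem chiFam_shift (U : ℤ → Type u) [∀ i, AddCommGroup (U i)] [∀ i, Module A (U i)] :
    chiFam (A := A) (fun i => U (i + 1)) = -chiFam (A := A) U := by
  rw [chiFam, chiFam, ← finsum_comp_equiv (Equiv.addRight (1 : ℤ)) (f := fun i => sgn i * len A (U i)),
    ← finsum_neg_distrib]
  refine finsum_congr fun i => ?_
  simp only [Equiv.coe_addRight, sgn_succ, neg_mul, neg_neg]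
  rfl

/-- The three term part of a long exact sequence. -/
theorem les {U V W : ℤ → Type u} [∀ i, AddCommGroup (U i)] [∀ i, Module A (U i)] [∀ i, AddCommGroup (V i)]
    [∀ i, Module A (V i)] [∀ i, AddCommGroup (W i)] [∀ i, Module A (W i)]
    (a : ∀ i, U i →ₗ[A] V i) (b : ∀ i, V i →ₗ[A] W i) (δ : ∀ i, W i →ₗ[A] U (i + 1))
    (h1 : ∀ i, Exact (a i) (b i)) (h2 : ∀ i, Exact (b i) (δ i)) (h3 : ∀ i, Exact (δ i) (a (i + 1)))
    (hU : ∀ i, IsFiniteLength A (U i)) (hW : ∀ i, IsFiniteLength A (W i)) (r : ℕ)
    (hrU : ∀ i : ℤ, r < i.natAbs → Subsingleton (U i)) (hrW : ∀ i : ℤ, r < i.natAbs → Subsingleton (W i)) :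
    (∀ i, IsFiniteLength A (V i)) ∧ chiFam (A := A) V = chiFam (A := A) U + chiFam (A := A) W := by
  have hV : ∀ i, IsFiniteLength A (V i) := fun i => isFiniteLength_of_exact (a i) (b i) (h1 i) (hU i) (hW i)
  refine ⟨hV, ?_⟩
  have hrV : ∀ i : ℤ, r < i.natAbs → Subsingleton (V i) := fun i hi => by
    have := hrU i hi
    have := hrW i hi
    refine subsingleton_of_forall_eq 0 fun v => ?_
    obtain ⟨x, rfl⟩ := (h1 i v).1 (Subsingleton.elim _ _)
    rw [Subsingleton.elim x 0, map_zero]
  let D : ℤ → ℤ := fun i => len A (LinearMap.range (δ i))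
  let g : ℤ → ℤ := fun i => sgn i * D i
  have hgfin : (support g).Finite := by
    refine (Set.finite_Icc (-(r : ℤ)) r).subset fun i hi => ?_
    by_contra h
    have := hrW i (by simp only [Set.mem_Icc, not_and_or, not_le] at h; omega)
    have : Subsingleton (LinearMap.range (δ i)) := (δ i).surjective_rangeRestrict.subsingleton
    exact hi (by simp [g, D, len_of_subsingleton])
  have key : ∀ i, sgn i * len A (V i) - (sgn i * len A (U i) + sgn i * len A (W i)) = g (i - 1) - g i := by
    intro i
    have e1 := len_eq_range_add_range (a i) (b i) (h1 i) (hV i)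
    have e2 := len_eq_range_add_range (b i) (δ i) (h2 i) (hW i)
    have e3 : len A (U i) = D (i - 1) + len A (LinearMap.range (a i)) := by
      obtain ⟨k, rfl⟩ : ∃ k, i = k + 1 := ⟨i - 1, by ring⟩
      rw [add_sub_cancel_right]
      exact len_eq_range_add_range (δ k) (a (k + 1)) (h3 k) (hU _)
    have e4 : sgn i = -sgn (i - 1) := by
      conv_lhs => rw [← sub_add_cancel i 1, sgn_succ]
    simp only [g, e1, e2, e3, D, e4]
    ring
  have hsum : ∑ᶠ i, (g (i - 1) - g i) = 0 := by
    rw [finsum_sub_distrib _ hgfin]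
    · rw [← finsum_comp_equiv (Equiv.addRight (-1 : ℤ)) (f := g)]
      simp [sub_eq_add_neg]
    · exact (hgfin.image (· + 1)).subset fun i hi => ⟨i - 1, hi, sub_add_cancel i 1⟩
  have hfU := finite_support (A := A) r hrU sgn
  have hfW := finite_support (A := A) r hrW sgn
  have hfV := finite_support (A := A) r hrV sgn
  have hUW : (support fun i => sgn i * len A (U i) + sgn i * len A (W i)).Finite :=
    (hfU.union hfW).subset (support_add _ _)
  rw [chiFam, chiFam, chiFam, ← finsum_add_distrib hfU hfW, ← sub_eq_zero, ← finsum_sub_distrib hfV hUW, ← hsum]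
  exact finsum_congr key

theorem length_le_of_exact' {N₁ N₂ N₃ : Type u} [AddCommGroup N₁] [Module A N₁] [AddCommGroup N₂] [Module A N₂]
    [AddCommGroup N₃] [Module A N₃] (f : N₁ →ₗ[A] N₂) (g : N₂ →ₗ[A] N₃) (hex : Exact f g) :
    Module.length A N₂ ≤ Module.length A N₁ + Module.length A N₃ := by
  rw [Module.length_eq_add_of_exact (LinearMap.range f).subtype g.rangeRestrict (Submodule.injective_subtype _)
    g.surjective_rangeRestrict (by
      rw [LinearMap.exact_iff, LinearMap.ker_rangeRestrict, Submodule.range_subtype]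
      exact hex.linearMap_ker_eq)]
  exact add_le_add (Module.length_le_of_surjective _ f.surjective_rangeRestrict)
    (Module.length_le_of_injective _ (Submodule.injective_subtype _))

end Groth.Agent.CAlgH.KoszulEuler
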