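import Groth.Agent.CAlgH.KoszulEuler.LES
import Groth.Agent.Misc15.KoszulElem

/-!
# Homology relative to a family of submodules, and cones of multiplications
-/

universe u

set_option autoImplicit false
set_option backward.isDefEq.respectTransparency false
set_option backward.isDefEq.respectTransparency.types false

open CategoryTheory CategoryTheory.Limits CochainComplex
open Groth.Agent.Misc15.Koszul Groth.Agent.CommAlg6

namespace Groth.Agent.CAlgH.KoszulEuler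

variable {A : Type u} [CommRing A] (C : CochainComplex (ModuleCat.{u} A) ℤ) (G : ∀ i, Submodule A (C.X i))

/-- Cycles relative to `G`. -/
def relZ (i : ℤ) : Submodule A (C.X i) := (G (i + 1)).comap (C.d i (i + 1)).hom

/-- Boundaries relative to `G`. -/
def relB (i : ℤ) : Submodule A (C.X i) := G i ⊔ LinearMap.range (C.d (i - 1) i).hom

/-- Homology of `C` relative to `G`. -/
abbrev HR (i : ℤ) : Type u := ↥(relZ C G i) ⧸ (relB C G i).comap (relZ C G i).subtype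

variable {C G}

theorem mem_relZ {i : ℤ} (j : ℤ) (hij : i + 1 = j) {x : C.X i} : x ∈ relZ C G i ↔ (C.d i j).hom x ∈ G j := by
  subst hij
  rfl

theorem mem_relB {j : ℤ} (i : ℤ) (hij : i + 1 = j) {x : C.X j} :
    x ∈ relB C G j ↔ ∃ g ∈ G j, ∃ w : C.X i, g + (C.d i j).hom w = x := by
  obtain rfl : i = j - 1 := by omega
  simp only [relB, Submodule.mem_sup, LinearMap.mem_range]
  constructor
  · rintro ⟨g, hg, _, ⟨w, rfl⟩, rfl⟩
    exact ⟨g, hg, w, rfl⟩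
  · rintro ⟨g, hg, w, rfl⟩
    exact ⟨g, hg, _, ⟨w, rfl⟩, rfl⟩

theorem mk_eq_zero {i : ℤ} (z : relZ C G i) :
    (Submodule.Quotient.mk z : HR C G i) = 0 ↔ (z : C.X i) ∈ relB C G i :=
  Submodule.Quotient.mk_eq_zero _

variable (C) in
/-- Absolute homology is the relative one for the zero family. -/
theorem nonempty_homology_equiv (i : ℤ) :
    Nonempty ((C.homology i : Type u) ≃ₗ[A] HR C (fun _ => ⊥) i) := by
  let S := C.sc' (i - 1) i (i + 1)
  refine ⟨((C.homologyIsoSc' (i - 1) i (i + 1) (by simp) (by simp)).trans S.moduleCatHomologyIso).toLinearEquiv.trans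
    (Submodule.Quotient.equiv _ _ (LinearEquiv.ofEq _ _ (Submodule.comap_bot _).symm) ?_)⟩
  ext ⟨x, hx⟩
  simp only [Submodule.mem_map, LinearMap.mem_range, Submodule.mem_comap, Submodule.coe_subtype, relB, bot_sup_eq]
  constructor
  · rintro ⟨y, ⟨w, rfl⟩, hyx⟩
    exact ⟨w, congrArg Subtype.val hyx⟩
  · rintro ⟨w, hw⟩
    exact ⟨S.moduleCatToCycles w, ⟨w, rfl⟩, Subtype.ext hw⟩

theorem subsingleton_HR {i : ℤ} [Subsingleton (C.X i)] : Subsingleton (HR C G i) := by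
  have : Subsingleton (relZ C G i) := inferInstance
  exact (Submodule.mkQ_surjective _).subsingleton

section Cone

variable {K : CochainComplex (ModuleCat.{u} A) ℤ} (a : A) (G₁ G₂ : ∀ i, Submodule A (K.X i))

/-- The family on the cone. -/
def coneG (i : ℤ) : Submodule A ((mappingCone (a • 𝟙 K)).X i) where
  carrier := {x | cfst _ (i + 1) rfl x ∈ G₁ (i + 1) ∧ csnd _ x ∈ G₂ i}
  zero_mem' := ⟨by rw [cfst_zero]; exact zero_mem _, by rw [csnd_zero]; exact zero_mem _⟩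
  add_mem' := fun {x y} hx hy => ⟨by rw [cfst_add]; exact add_mem hx.1 hy.1, by rw [csnd_add]; exact add_mem hx.2 hy.2⟩
  smul_mem' := fun r x hx => ⟨by rw [cfst_smul]; exact Submodule.smul_mem _ r hx.1,
    by rw [csnd_smul]; exact Submodule.smul_mem _ r hx.2⟩

theorem mem_coneG {i : ℤ} (j : ℤ) (hij : i + 1 = j) {x : (mappingCone (a • 𝟙 K)).X i} :
    x ∈ coneG a G₁ G₂ i ↔ cfst _ j hij x ∈ G₁ j ∧ csnd _ x ∈ G₂ i := by
  subst hij
  rfl

theorem mem_relZ_cone {i : ℤ} {x : (mappingCone (a • 𝟙 K)).X i} :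
    x ∈ relZ (mappingCone (a • 𝟙 K)) (coneG a G₁ G₂) i ↔
      (cfst _ (i + 1) rfl x ∈ relZ K G₁ (i + 1)) ∧
        a • cfst _ (i + 1) rfl x + (K.d i (i + 1)).hom (csnd _ x) ∈ G₂ (i + 1) := by
  rw [mem_relZ (i + 1) rfl, mem_coneG a G₁ G₂ (i + 1 + 1) rfl, cfst_d _ (i + 1) (i + 1 + 1) rfl rfl,
    csnd_d _ (i + 1) rfl, smul_id_f, neg_mem_iff]
  rfl

/-- Elements coming from the target. -/
noncomputable def inX (i : ℤ) : K.X i →ₗ[A] (mappingCone (a • 𝟙 K)).X i :=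
  ((mappingCone.inr (a • 𝟙 K)).f i).hom

theorem cfst_inX (i j : ℤ) (h : i + 1 = j) (v : K.X i) : cfst _ j h (inX a i v) = 0 :=
  ConcreteCategory.congr_hom (mappingCone.inr_f_fst_v (a • 𝟙 K) i j h) v

theorem csnd_inX (i : ℤ) (v : K.X i) : csnd _ (inX a i v) = v :=
  ConcreteCategory.congr_hom (mappingCone.inr_f_snd_v (a • 𝟙 K) i) v

theorem inX_mem_relZ {i : ℤ} {v : K.X i} (hv : v ∈ relZ K G₂ i) :
    inX a i v ∈ relZ (mappingCone (a • 𝟙 K)) (coneG a G₁ G₂) i := by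
  rw [mem_relZ_cone, cfst_inX, csnd_inX, smul_zero, zero_add]
  exact ⟨zero_mem _, hv⟩

theorem inX_mem_relB {i : ℤ} {v : K.X i} (hv : v ∈ relB K G₂ i) :
    inX a i v ∈ relB (mappingCone (a • 𝟙 K)) (coneG a G₁ G₂) i := by
  obtain ⟨k, rfl⟩ : ∃ k, i = k + 1 := ⟨i - 1, by ring⟩
  obtain ⟨g, hg, w, rfl⟩ := (mem_relB k rfl).1 hv
  refine (mem_relB k rfl).2 ⟨inX a _ g, ⟨by rw [cfst_inX]; exact zero_mem _, by rw [csnd_inX]; exact hg⟩, inX a k w,
    cone_ext _ (k + 1 + 1) rfl ?_ ?_⟩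
  · rw [cfst_add, cfst_d _ (k + 1) (k + 1 + 1) rfl rfl, cfst_inX, cfst_inX, cfst_inX, map_zero, neg_zero, add_zero]
  · rw [csnd_add, csnd_d _ (k + 1) rfl, smul_id_f, csnd_inX, cfst_inX, csnd_inX, csnd_inX, smul_zero, zero_add]

/-- From the target. -/
noncomputable def coneIn (i : ℤ) : HR K G₂ i →ₗ[A] HR (mappingCone (a • 𝟙 K)) (coneG a G₁ G₂) i :=
  Submodule.mapQ _ _ ((inX a i).restrict fun _ h => inX_mem_relZ a G₁ G₂ h) fun _ h => inX_mem_relB a G₁ G₂ h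

theorem cfst_mem_relB {i : ℤ} {x : (mappingCone (a • 𝟙 K)).X i}
    (hx : x ∈ relB (mappingCone (a • 𝟙 K)) (coneG a G₁ G₂) i) : cfst _ (i + 1) rfl x ∈ relB K G₁ (i + 1) := by
  obtain ⟨g, hg, w, rfl⟩ := (mem_relB (i - 1) (sub_add_cancel i 1)).1 hx
  refine (mem_relB i rfl).2 ⟨_, hg.1, -cfst _ i (sub_add_cancel i 1) w, ?_⟩
  rw [cfst_add, cfst_d _ i (i + 1) (sub_add_cancel i 1) rfl, map_neg]

/-- To the source. -/
noncomputable def coneOut (i : ℤ) : HR (mappingCone (a • 𝟙 K)) (coneG a G₁ G₂) i →ₗ[A] HR K G₁ (i + 1) :=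
  Submodule.mapQ _ _ (((mappingCone.fst (a • 𝟙 K)).1.v i (i + 1) rfl).hom.restrict
    fun _ h => ((mem_relZ_cone a G₁ G₂).1 h).1) fun _ h => cfst_mem_relB a G₁ G₂ h

variable (hG : ∀ i, ∀ x ∈ G₁ i, a • x ∈ G₂ i)

include hG in
theorem smul_mem_relZ {i : ℤ} {x : K.X i} (hx : x ∈ relZ K G₁ i) : a • x ∈ relZ K G₂ i := by
  rw [mem_relZ (i + 1) rfl, map_smul]
  exact hG _ _ hx

include hG in
theorem smul_mem_relB {i : ℤ} {x : K.X i} (hx : x ∈ relB K G₁ i) : a • x ∈ relB K G₂ i := by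
  obtain ⟨g, hg, w, rfl⟩ := (mem_relB (i - 1) (sub_add_cancel i 1)).1 hx
  exact (mem_relB (i - 1) (sub_add_cancel i 1)).2 ⟨a • g, hG _ _ hg, a • w, by rw [map_smul, smul_add]⟩

/-- The connecting map is multiplication. -/
noncomputable def coneMul (i : ℤ) : HR K G₁ i →ₗ[A] HR K G₂ i :=
  Submodule.mapQ _ _ ((a • LinearMap.id).restrict fun _ h => smul_mem_relZ a G₁ G₂ hG h)
    fun _ h => smul_mem_relB a G₁ G₂ hG h

theorem coneMul_mk {i : ℤ} (z : relZ K G₁ i) :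
    coneMul a G₁ G₂ hG i (Submodule.Quotient.mk z) = Submodule.Quotient.mk ⟨a • z.1, smul_mem_relZ a G₁ G₂ hG z.2⟩ :=
  rfl

include hG in
theorem exact_in_out (i : ℤ) : Function.Exact (coneIn a G₁ G₂ i) (coneOut a G₁ G₂ i) := by
  intro q
  obtain ⟨⟨x, hx⟩, rfl⟩ := Submodule.Quotient.mk_surjective _ q
  constructor
  · intro h
    have h' : cfst _ (i + 1) rfl x ∈ relB K G₁ (i + 1) := (mk_eq_zero _).1 h
    obtain ⟨g, hg, w, hgw⟩ := (mem_relB i rfl).1 h'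
    obtain ⟨hu, hv⟩ := (mem_relZ_cone a G₁ G₂).1 hx
    have hv' : csnd _ x + a • w ∈ relZ K G₂ i := by
      rw [mem_relZ (i + 1) rfl, map_add, map_smul, ← add_sub_cancel_left g ((K.d i (i + 1)).hom w), hgw, smul_sub,
        show (K.d i (i + 1)).hom (csnd _ x) + (a • cfst _ (i + 1) rfl x - a • g) =
          (a • cfst _ (i + 1) rfl x + (K.d i (i + 1)).hom (csnd _ x)) - a • g by abel]
      exact sub_mem hv (hG _ _ hg)
    refine ⟨Submodule.Quotient.mk ⟨_, hv'⟩, ?_⟩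
    refine (Submodule.Quotient.eq _).2 ?_
    show inX a i (csnd _ x + a • w) - x ∈ relB (mappingCone (a • 𝟙 K)) (coneG a G₁ G₂) i
    obtain ⟨k, rfl⟩ : ∃ k, i = k + 1 := ⟨i - 1, by ring⟩
    refine (mem_relB k rfl).2 ⟨cmk _ (k + 1 + 1) rfl (-g) 0, ⟨by rw [cfst_cmk]; exact neg_mem hg,
      by rw [csnd_cmk]; exact zero_mem _⟩, cmk _ (k + 1) rfl w 0, cone_ext _ (k + 1 + 1) rfl ?_ ?_⟩
    · rw [cfst_add, cfst_cmk, cfst_d _ (k + 1) (k + 1 + 1) rfl rfl, cfst_cmk]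
      have : cfst (a • 𝟙 K) (k + 1 + 1) rfl (inX a (k + 1) (csnd _ x + a • w) - x) = -cfst _ (k + 1 + 1) rfl x := by
        show ((mappingCone.fst (a • 𝟙 K)).1.v (k + 1) (k + 1 + 1) rfl).hom _ = _
        rw [map_sub]
        show cfst _ (k + 1 + 1) rfl (inX a (k + 1) _) - cfst _ (k + 1 + 1) rfl x = _
        rw [cfst_inX, zero_sub]
      rw [this, ← hgw, neg_add]
    · rw [csnd_add, csnd_cmk, csnd_d _ (k + 1) rfl, cfst_cmk, csnd_cmk, smul_id_f, map_zero, add_zero, zero_add]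
      show a • w = ((mappingCone.snd (a • 𝟙 K)).v (k + 1) (k + 1) (add_zero _)).hom _
      rw [map_sub]
      show a • w = csnd _ (inX a (k + 1) (csnd _ x + a • w)) - csnd _ x
      rw [csnd_inX, add_sub_cancel_left]
  · rintro ⟨p, hp⟩
    obtain ⟨⟨v, hv⟩, rfl⟩ := Submodule.Quotient.mk_surjective _ p
    rw [← hp]
    exact (mk_eq_zero _).2 (show cfst _ (i + 1) rfl (inX a i v) ∈ _ by rw [cfst_inX]; exact zero_mem _)

theorem exact_out_mul (i : ℤ) : Function.Exact (coneOut a G₁ G₂ i) (coneMul a G₁ G₂ hG (i + 1)) := by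
  intro q
  obtain ⟨⟨u, hu⟩, rfl⟩ := Submodule.Quotient.mk_surjective _ q
  constructor
  · intro h
    have h' : a • u ∈ relB K G₂ (i + 1) := (mk_eq_zero _).1 h
    obtain ⟨g, hg, w, hgw⟩ := (mem_relB i rfl).1 h'
    refine ⟨Submodule.Quotient.mk ⟨cmk _ (i + 1) rfl u (-w), (mem_relZ_cone a G₁ G₂).2 ?_⟩, ?_⟩
    · rw [cfst_cmk, csnd_cmk]
      refine ⟨hu, ?_⟩
      rw [map_neg, ← hgw, add_assoc, add_neg_cancel, add_zero]
      exact hg
    · exact congrArg Submodule.Quotient.mk (Subtype.ext (cfst_cmk _ _ rfl _ _))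
  · rintro ⟨p, hp⟩
    obtain ⟨⟨x, hx⟩, rfl⟩ := Submodule.Quotient.mk_surjective _ p
    rw [← hp]
    refine (mk_eq_zero _).2 ((mem_relB i rfl).2 ⟨_, ((mem_relZ_cone a G₁ G₂).1 hx).2, -csnd _ x, ?_⟩)
    rw [map_neg, add_neg_cancel_right]
    rfl

theorem exact_mul_in (i : ℤ) : Function.Exact (coneMul a G₁ G₂ hG i) (coneIn a G₁ G₂ i) := by
  intro q
  obtain ⟨⟨v, hv⟩, rfl⟩ := Submodule.Quotient.mk_surjective _ q
  obtain ⟨k, rfl⟩ : ∃ k, i = k + 1 := ⟨i - 1, by ring⟩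
  constructor
  · intro h
    have h' : inX a (k + 1) v ∈ relB (mappingCone (a • 𝟙 K)) (coneG a G₁ G₂) (k + 1) := (mk_eq_zero _).1 h
    obtain ⟨g, hg, w, hgw⟩ := (mem_relB k rfl).1 h'
    have h1 := congrArg (cfst _ (k + 1 + 1) rfl) hgw
    have h2 := congrArg (csnd _) hgw
    rw [cfst_add, cfst_d _ (k + 1) (k + 1 + 1) rfl rfl, cfst_inX, ← sub_eq_add_neg, sub_eq_zero] at h1
    rw [csnd_add, csnd_d _ (k + 1) rfl, smul_id_f, csnd_inX] at h2
    refine ⟨Submodule.Quotient.mk ⟨cfst _ (k + 1) rfl w, by rw [mem_relZ (k + 1 + 1) rfl, ← h1]; exact hg.1⟩, ?_⟩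
    rw [coneMul_mk]
    refine (Submodule.Quotient.eq _).2 ((mem_relB k rfl).2 ⟨-csnd _ g, neg_mem hg.2, -csnd _ w, ?_⟩)
    show _ = a • cfst _ (k + 1) rfl w - v
    rw [← h2, map_neg]
    abel
  · rintro ⟨p, hp⟩
    obtain ⟨⟨u, hu⟩, rfl⟩ := Submodule.Quotient.mk_surjective _ p
    rw [← hp, coneMul_mk]
    refine (mk_eq_zero _).2 ((mem_relB k rfl).2 ⟨cmk _ (k + 1 + 1) rfl ((K.d (k + 1) (k + 1 + 1)).hom u) 0,
      ⟨by rw [cfst_cmk]; exact hu, by rw [csnd_cmk]; exact zero_mem _⟩, cmk _ (k + 1) rfl u 0, ?_⟩)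
    refine cone_ext _ (k + 1 + 1) rfl ?_ ?_
    · rw [cfst_add, cfst_cmk, cfst_d _ (k + 1) (k + 1 + 1) rfl rfl, cfst_cmk, add_neg_cancel]
      exact (cfst_inX a _ _ rfl _).symm
    · rw [csnd_add, csnd_cmk, csnd_d _ (k + 1) rfl, cfst_cmk, csnd_cmk, smul_id_f, map_zero, add_zero, zero_add]
      exact (csnd_inX a _ _).symm

include hG in
theorem chiFam_cone (r : ℕ) (hr : ∀ i : ℤ, r < i.natAbs → Subsingleton (K.X i))
    (h₁ : ∀ i, IsFiniteLength A (HR K G₁ i)) (h₂ : ∀ i, IsFiniteLength A (HR K G₂ i)) :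
    (∀ i, IsFiniteLength A (HR (mappingCone (a • 𝟙 K)) (coneG a G₁ G₂) i)) ∧
      chiFam (A := A) (HR (mappingCone (a • 𝟙 K)) (coneG a G₁ G₂)) =
        chiFam (A := A) (HR K G₂) - chiFam (A := A) (HR K G₁) := by
  obtain ⟨hfl, he⟩ := les (U := HR K G₂) (W := fun i => HR K G₁ (i + 1)) (coneIn a G₁ G₂) (coneOut a G₁ G₂)
    (fun i => coneMul a G₁ G₂ hG (i + 1)) (exact_in_out a G₁ G₂ hG) (exact_out_mul a G₁ G₂ hG)
    (fun i => exact_mul_in a G₁ G₂ hG (i + 1)) h₂ (fun i => h₁ (i + 1)) (r + 1)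
    (fun i hi => have := hr i (by omega); subsingleton_HR)
    (fun i hi => have := hr (i + 1) (by omega); subsingleton_HR)
  refine ⟨hfl, he.trans ?_⟩
  rw [chiFam_shift (A := A) (HR K G₁), sub_eq_add_neg]

end Cone

end Groth.Agent.CAlgH.KoszulEuler
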